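import Cfsg.Agent.H539.OF.Defs

/-!
# S4884, the row `²F₄(Q)` (helper539): opposite root groups and the Borel subgroup

* `exists_Tk` : elements `≠ 1` of the torus centralising `X_k` and `X_{k+8}`;
* `opp_one` : `⟨X_a, …, X_b⟩ ∩ ⟨X_{a+8}, …, X_{b+8}⟩ = 1`;
* `U_inf_opp`, `BB_inf_opp` : `U ∩ U⁻ = 1`, `B ∩ U⁻ = 1`;
* `mem_BB`, `mem_U_of_BB` : `B = U T`, elements of `2`-power order of `B` lie in `U`;
* `inter_w` : `U ∩ w U w⁻¹ ≤ J 2 8` or `J 1 7` for `w ∉ T`.
-/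

set_option autoImplicit false
set_option linter.unusedSectionVars false

namespace Cfsg.Agent.H539.OF

open Cfsg Cfsg.Agent.SplitTwo Cfsg.Agent.SplitTwo.ZS Cfsg.Agent.TitsThree.RankTwoZ Cfsg.Agent.KFacts.TwF4
open Cfsg.Agent.KFacts.TwF4.Full Cfsg.Agent.KFacts.TwF4.SylU Cfsg.Agent.KFacts.TwF4.Inv Cfsg.Agent.KFacts.TwF4.Arc
open Cfsg.Agent.KFacts.TwF4.AutTau
open Cfsg.Agent.SplitTwo.RootSysZ Subgroup

universe u

variable {F : Type*} [Field F] {σ : F →+* F} {G : Type u} [Group G] (S : Full σ G)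

theorem chE_add_four (c d : Fˣ) : ∀ a : ZMod 8, chE σ (a + 4) c d = (chE σ a c d)⁻¹ := by
  intro a
  fin_cases a
  · exact chE_four σ c d
  · exact chE_five σ c d
  · show chE σ 6 c d = (chE σ 2 c d)⁻¹
    rw [chE_six, chE_two, inv_div]
  · show chE σ 7 c d = (chE σ 3 c d)⁻¹
    rw [chE_seven, chE_three, inv_div]
  · show chE σ 0 c d = (chE σ 4 c d)⁻¹
    rw [chE_zero, chE_four, inv_inv]
  · show chE σ 1 c d = (chE σ 5 c d)⁻¹
    rw [chE_one, chE_five, inv_inv]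
  · show chE σ 2 c d = (chE σ 6 c d)⁻¹
    rw [chE_six, chE_two, inv_div]
  · show chE σ 3 c d = (chE σ 7 c d)⁻¹
    rw [chE_seven, chE_three, inv_div]

theorem chE_mul' (c d c' d' : Fˣ) : ∀ a : ZMod 8, chE σ a (c * c') (d * d') = chE σ a c d * chE σ a c' d' := by
  intro a
  fin_cases a
  · rfl
  · rfl
  · show chE σ 2 _ _ = chE σ 2 _ _ * chE σ 2 _ _
    rw [chE_two, chE_two, chE_two, map_mul, mul_div_mul_comm]
  · show chE σ 3 _ _ = chE σ 3 _ _ * chE σ 3 _ _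
    rw [chE_three, chE_three, chE_three, map_mul, mul_div_mul_comm]
  · show chE σ 4 _ _ = chE σ 4 _ _ * chE σ 4 _ _
    rw [chE_four, chE_four, chE_four, mul_inv]
  · show chE σ 5 _ _ = chE σ 5 _ _ * chE σ 5 _ _
    rw [chE_five, chE_five, chE_five, mul_inv]
  · show chE σ 6 _ _ = chE σ 6 _ _ * chE σ 6 _ _
    rw [chE_six, chE_six, chE_six, map_mul, mul_div_mul_comm]
  · show chE σ 7 _ _ = chE σ 7 _ _ * chE σ 7 _ _
    rw [chE_seven, chE_seven, chE_seven, map_mul, mul_div_mul_comm]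

theorem chO_mul' (c d c' d' : Fˣ) (a : ZMod 8) : chO σ a (c * c') (d * d') = chO σ a c d * chO σ a c' d' := by
  unfold chO
  rw [chE_mul', chE_mul', mul_mul_mul_comm]

theorem chO_add_four (c d : Fˣ) (a : ZMod 8) : chO σ (a + 4) c d = (chO σ a c d)⁻¹ := by
  unfold chO
  rw [chE_add_four, show a + 4 + 1 = (a + 1) + 4 by ring, chE_add_four, mul_inv]

section

variable [Finite F] (hF : ∃ c : Fˣ, c ≠ 1)

include S hF in
/-- a homomorphism from `(Fˣ)²` to `Fˣ` has a kernel -/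
theorem exists_ker (χ : Fˣ → Fˣ → Fˣ) (hχ : ∀ c d c' d', χ (c * c') (d * d') = χ c d * χ c' d') :
    ∃ c d, χ c d = 1 ∧ S.h c d ≠ 1 := by
  by_contra hcon
  push Not at hcon
  let f : Fˣ × Fˣ →* Fˣ := MonoidHom.mk' (fun p => χ p.1 p.2) fun p q => hχ _ _ _ _
  have hf : Function.Injective f := by
    rw [injective_iff_map_eq_one]
    rintro ⟨c, d⟩ h
    have h1 := hcon c d h
    rw [← S.h_one] at h1
    obtain ⟨h2, h3⟩ := S.h_inj _ _ _ _ h1
    rw [h2, h3]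
    rfl
  have h1 := Nat.card_le_card_of_injective f hf
  rw [Nat.card_prod] at h1
  obtain ⟨c, hc⟩ := hF
  have h2 : 1 < Nat.card Fˣ := Finite.one_lt_card_iff_nontrivial.2 ⟨c, 1, hc⟩
  nlinarith

include hF in
theorem exists_Tk (k : ℤ) : ∃ t, t ∈ S.Tk k ∧ t ∈ S.Tk (k + 8) ∧ t ≠ 1 := by
  obtain ⟨a, h | h⟩ := Int.even_or_odd' k
  · obtain ⟨c, d, h1, h2⟩ := exists_ker S hF (fun c d => chE σ (a : ZMod 8) c d) (by
      intro c d c' d'
      exact chE_mul' c d c' d' (a : ZMod 8))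
    refine ⟨S.h c d, ?_, ?_, h2⟩
    · rw [h]; exact (mem_Tk_even S a c d).2 h1
    · rw [h, show 2 * a + 8 = 2 * (a + 4) by ring]
      refine (mem_Tk_even S (a + 4) c d).2 ?_
      push_cast
      rw [chE_add_four, h1, inv_one]
  · obtain ⟨c, d, h1, h2⟩ := exists_ker S hF (fun c d => chO σ (a : ZMod 8) c d) (by
      intro c d c' d'
      exact chO_mul' c d c' d' (a : ZMod 8))
    refine ⟨S.h c d, ?_, ?_, h2⟩
    · rw [h]; exact (mem_Tk_odd S a c d).2 h1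
    · rw [h, show 2 * a + 1 + 8 = 2 * (a + 4) + 1 by ring]
      refine (mem_Tk_odd S (a + 4) c d).2 ?_
      push_cast
      rw [chO_add_four, h1, inv_one]

include hF in
/-- opposite arcs intersect trivially -/
theorem opp_one : ∀ (n : ℕ) (a b : ℤ), b + 1 ≤ a + n → b < a + 8 → ∀ x, x ∈ J S.XZ a b → x ∈ J S.XZ (a + 8) (b + 8) →
    x = 1 := by
  intro n
  induction n with
  | zero =>
    intro a b h1 _ x hx _
    exact eq_one_of_J hx (by push_cast at h1; omega)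
  | succ n ih =>
    intro a b h1 h2 x hx hx'
    push_cast at h1
    rcases lt_or_ge b a with hab | hab
    · exact eq_one_of_J hx hab
    obtain ⟨t, ht, ht', hne⟩ := exists_Tk S hF a
    have key : ∀ a' : ℤ, t ∈ S.Tk a' → a' ≤ a' + (b - a) → x ∈ J S.XZ a' (a' + (b - a)) →
        t * x * t⁻¹ * x⁻¹ ∈ J S.XZ (a' + 1) (a' + (b - a)) := by
      intro a' hta hle hxa
      obtain ⟨r, hr, y, hy, rfl⟩ := S.zsys8.split_ll hle (by omega) hxa
      have e : t * (r * y) * t⁻¹ * (r * y)⁻¹ = r * ((t * y * t⁻¹) * y⁻¹) * r⁻¹ := by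
        have h3 : t * r * t⁻¹ = r := by rw [S.Tk_comm hta hr, mul_inv_cancel_right]
        calc t * (r * y) * t⁻¹ * (r * y)⁻¹ = (t * r * t⁻¹) * ((t * y * t⁻¹) * y⁻¹) * r⁻¹ := by group
          _ = _ := by rw [h3]
      rw [e]
      exact S.zsys8.conj_X (by omega) (by omega) (by omega) hr (mul_mem (S.T_conj_J ht.1 hy) (inv_mem hy))
    have e1 : a + (b - a) = b := by ring
    have e2 : a + 8 + (b - a) = b + 8 := by ring
    have k1 := key a ht (by omega) (by rw [e1]; exact hx)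
    have k2 := key (a + 8) ht' (by omega) (by rw [e2]; exact hx')
    rw [e1] at k1
    rw [e2, show a + 8 + 1 = a + 1 + 8 by ring] at k2
    have h3 := ih (a + 1) b (by omega) (by omega) _ k1 k2
    have h4 : t * x * t⁻¹ = x := mul_inv_eq_one.1 h3
    have h5 := S.fix_J ht hne (a := a) (b := b) (by omega) (by omega) (by omega) hx h4
    have h6 := S.fix_J ht' hne (a := a + 8) (b := b + 8) (by omega) (by omega) (by omega) hx' h4
    exact S.X_inf_opp h5 h6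

include hF in
theorem U_inf_opp {x : G} (hx : x ∈ UU S) (hx' : x ∈ J S.XZ 9 16) : x = 1 :=
  opp_one S hF 8 1 8 (by norm_num) (by norm_num) x hx (by norm_num; exact hx')

/-- periodicity of the arcs -/
theorem J_per (a b : ℤ) : J S.XZ (a + 16) (b + 16) = J S.XZ a b := by
  apply le_antisymm
  · refine J_le fun k h1 h2 => ?_
    have := XZ_add S (k - 16)
    rw [sub_add_cancel] at this
    rw [this]
    exact X_le_J (by omega) (by omega)
  · refine J_le fun k h1 h2 => ?_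
    rw [← XZ_add S k]
    exact X_le_J (by omega) (by omega)

/-! ### the Borel subgroup -/

theorem mem_BB {g : G} (hg : g ∈ BB S) : ∃ u ∈ UU S, ∃ t ∈ S.T, g = u * t := by
  have h : BB S = S.T ⊔ UU S := rfl
  rw [h] at hg
  obtain ⟨t, ht, u, hu, rfl⟩ := mem_sup_of_norm (fun t ht u hu => S.T_conj_J ht hu) hg
  exact ⟨t * u * t⁻¹, S.T_conj_J ht hu, t, ht, by group⟩

theorem mem_BB' {g : G} (hg : g ∈ BB S) : ∃ t ∈ S.T, ∃ u ∈ UU S, g = t * u := by
  have h : BB S = S.T ⊔ UU S := rfl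
  rw [h] at hg
  exact mem_sup_of_norm (fun t ht u hu => S.T_conj_J ht hu) hg

theorem BB_norm {b u : G} (hb : b ∈ BB S) (hu : u ∈ UU S) : b * u * b⁻¹ ∈ UU S := by
  obtain ⟨v, hv, t, ht, rfl⟩ := mem_BB S hb
  have e : v * t * u * (v * t)⁻¹ = v * (t * u * t⁻¹) * v⁻¹ := by group
  rw [e]
  exact mul_mem (mul_mem hv (S.T_conj_J ht hu)) (inv_mem hv)

theorem BB_norm' {b u : G} (hb : b ∈ BB S) (hu : u ∈ UU S) : b⁻¹ * u * b ∈ UU S := by
  have := BB_norm S (inv_mem hb) hu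
  rwa [inv_inv] at this

theorem mul_BB_pow [Finite G] {u t : G} (hu : u ∈ UU S) (ht : t ∈ S.T) (m : ℕ) : ∃ v ∈ UU S, (u * t) ^ m = v * t ^ m :=
  Cfsg.Agent.H743.EP.TwF.pow_form S hu ht m

/-- elements of `2`-power order of `B` lie in `U` -/
theorem mem_U_of_BB [Finite G] {b : G} (hb : b ∈ BB S) {k : ℕ} (h : b ^ 2 ^ k = 1) : b ∈ UU S := by
  obtain ⟨u, hu, t, ht, rfl⟩ := mem_BB S hb
  obtain ⟨v, hv, e⟩ := mul_BB_pow S hu ht (2 ^ k)
  rw [h] at e
  have h1 : t ^ 2 ^ k ∈ UU S := by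
    have : t ^ 2 ^ k = v⁻¹ := eq_inv_of_mul_eq_one_right e.symm
    rw [this]; exact inv_mem hv
  have h2 := S.U_inf_T (pow_mem ht _) h1
  obtain ⟨c, d, rfl⟩ := S.mem_T.1 ht
  obtain ⟨rfl, rfl⟩ := torus_two S h2
  rw [S.h_one, mul_one]
  exact hu

include hF in
/-- `B ∩ U⁻ = 1` -/
theorem BB_inf_opp {x : G} (hx : x ∈ BB S) (hx' : x ∈ J S.XZ 9 16) : x = 1 := by
  obtain ⟨u, hu, t, ht, rfl⟩ := mem_BB S hx
  have key : ∀ s ∈ S.T, s * (u * t) * s⁻¹ = u * t := by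
    intro s hs
    have h1 : s * (u * t) * s⁻¹ * (u * t)⁻¹ ∈ UU S := by
      have e : s * (u * t) * s⁻¹ * (u * t)⁻¹ = (s * u * s⁻¹) * u⁻¹ := by
        have h2 := S.T_comm hs ht
        calc s * (u * t) * s⁻¹ * (u * t)⁻¹ = (s * u * s⁻¹) * ((s * t) * s⁻¹ * t⁻¹) * u⁻¹ := by group
          _ = _ := by rw [h2]; group
      rw [e]
      exact mul_mem (S.T_conj_J hs hu) (inv_mem hu)
    have h2 : s * (u * t) * s⁻¹ * (u * t)⁻¹ ∈ J S.XZ 9 16 := mul_mem (S.T_conj_J hs hx') (inv_mem hx')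
    exact mul_inv_eq_one.1 (U_inf_opp S hF h1 h2)
  obtain ⟨s, hs, -, hne⟩ := exists_Tk S hF 9
  obtain ⟨s', hs', -, hne'⟩ := exists_Tk S hF 10
  have h1 := S.fix_J hs hne (a := 9) (b := 16) (by norm_num) (by norm_num) (by norm_num) hx' (key s hs.1)
  have h2 := S.fix_J hs' hne' (a := 9) (b := 16) (by norm_num) (by norm_num) (by norm_num) hx' (key s' hs'.1)
  exact S.zsys8.inter 9 _ h1 (mem_J h2 (by norm_num) (by norm_num))

end

/-! ### intersections of conjugates of `U` -/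

/-- `w` is the rotation by `0` iff it lies in `T` -/
theorem mem_T_of_rtn {w : G} (h : Rtn S 0 w) : w ∈ S.T := by
  rw [S.T_iff]
  intro k x
  have hk : (((k.val : ℕ) : ℤ) : ZMod (2 * 8)) = k := by rw [Int.cast_natCast]; exact ZMod.natCast_zmod_val _
  have h1 := h (k.val : ℤ) x
  rw [add_zero] at h1
  have h8 : ∀ y, y ∈ S.XZ (k.val : ℤ) ↔ y ∈ S.R.X k := fun y => by show y ∈ S.R.X _ ↔ _; rw [hk]
  rw [h8, h8] at h1
  exact h1.symm

theorem Rtn.inv_mem {c : ℤ} {w : G} (h : Rtn S c w) {j k : ℤ} {x : G} (hx : x ∈ S.XZ j) (hk : j = k + c) :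
    w⁻¹ * x * w ∈ S.XZ k := by
  rw [h k]
  have e : w * (w⁻¹ * x * w) * w⁻¹ = x := by group
  rw [e, ← hk]
  exact hx

theorem Rtn.mem {c : ℤ} {w : G} (h : Rtn S c w) {j k : ℤ} {x : G} (hx : x ∈ S.XZ j) (hk : k = j + c) :
    w * x * w⁻¹ ∈ S.XZ k := by
  rw [hk]
  exact (h j x).1 hx

theorem Rtn.mem_J {c : ℤ} {w : G} (h : Rtn S c w) {a b : ℤ} {x : G} (hx : x ∈ J S.XZ a b) :
    w * x * w⁻¹ ∈ J S.XZ (a + c) (b + c) := by
  have : J S.XZ a b ≤ (J S.XZ (a + c) (b + c)).comap (MulAut.conj w).toMonoidHom :=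
    J_le fun k h1 h2 y hy => ZS.mem_J (Rtn.mem S h hy rfl) (by omega) (by omega)
  exact this hx

theorem Rtn.mem_J_inv {c : ℤ} {w : G} (h : Rtn S c w) {a b : ℤ} {x : G} (hx : x ∈ J S.XZ a b) :
    w⁻¹ * x * w ∈ J S.XZ (a - c) (b - c) := by
  have : J S.XZ a b ≤ (J S.XZ (a - c) (b - c)).comap (MulAut.conj w⁻¹).toMonoidHom :=
    J_le fun k h1 h2 y hy => by
      show w⁻¹ * y * w⁻¹⁻¹ ∈ J S.XZ (a - c) (b - c)
      rw [inv_inv]
      exact ZS.mem_J (Rtn.inv_mem S h hy (k := k - c) (by ring)) (by omega) (by omega)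
  have h1 : w⁻¹ * x * w⁻¹⁻¹ ∈ J S.XZ (a - c) (b - c) := this hx
  rwa [inv_inv] at h1

variable [Finite F] (hF : ∃ c : Fˣ, c ≠ 1)

include hF in
/-- `U ∩ ⟨X_a, …, X_{a+7}⟩` for `1 ≤ a ≤ 9` -/
theorem inter_hi {a : ℤ} (h1 : 1 ≤ a) (h2 : a ≤ 9) {x : G} (hx : x ∈ UU S) (hx' : x ∈ J S.XZ a (a + 7)) :
    x ∈ J S.XZ a 8 := by
  obtain ⟨p, hp, q, hq, rfl⟩ := S.zsys8.split (a := a) (b := a + 7) (c := 9) h2 (by omega) (by omega) hx'
  have hp' : p ∈ J S.XZ a 8 := J_mono le_rfl (by norm_num) hp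
  have hq1 : q ∈ UU S := by
    have e : q = p⁻¹ * (p * q) := by group
    rw [e]
    exact mul_mem (inv_mem (J_mono h1 le_rfl hp')) hx
  rw [U_inf_opp S hF hq1 (J_mono le_rfl (by omega) hq), mul_one]
  exact hp'

include hF in
/-- `U ∩ ⟨X_a, …, X_{a+7}⟩` for `-7 ≤ a ≤ 1` -/
theorem inter_lo {a : ℤ} (h1 : -7 ≤ a) (h2 : a ≤ 1) {x : G} (hx : x ∈ UU S) (hx' : x ∈ J S.XZ a (a + 7)) :
    x ∈ J S.XZ 1 (a + 7) := by
  obtain ⟨p, hp, q, hq, rfl⟩ := S.zsys8.split (a := a) (b := a + 7) (c := 1) h2 (by omega) (by omega) hx'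
  have hp' : p ∈ J S.XZ 9 16 := by
    have := J_per S (-7) 0
    norm_num at this
    rw [this]
    exact J_mono h1 (by norm_num) hp
  have hq' : q ∈ UU S := J_mono le_rfl (by omega) hq
  have hp1 : p ∈ UU S := by
    have e : p = (p * q) * q⁻¹ := by group
    rw [e]
    exact mul_mem hx (inv_mem hq')
  rw [U_inf_opp S hF hp1 hp', one_mul]
  exact hq

include hF in
/-- **`U ∩ w U w⁻¹`** for dihedral `w ∉ T` -/
theorem inter_w {w x : G} (hw : S.IsDihE w) (hwT : w ∉ S.T) (hx : x ∈ UU S) (hx' : w⁻¹ * x * w ∈ UU S) :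
    x ∈ J S.XZ 2 8 ∨ x ∈ J S.XZ 1 7 := by
  obtain ⟨c, h0, h8, hc | hc⟩ := dih_cases S hw
  · have hc0 : c ≠ 0 := by
      rintro rfl
      exact hwT (mem_T_of_rtn S (by simpa using hc))
    have h1 : x ∈ J S.XZ (1 + 2 * c) (8 + 2 * c) := by
      have := Rtn.mem_J S hc hx'
      have e : w * (w⁻¹ * x * w) * w⁻¹ = x := by group
      rwa [e] at this
    rcases le_or_gt c 4 with h | h
    · left
      have := inter_hi S hF (a := 1 + 2 * c) (by omega) (by omega) hx (by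
        rw [show 1 + 2 * c + 7 = 8 + 2 * c by ring]; exact h1)
      exact J_mono (by omega) le_rfl this
    · right
      have := inter_lo S hF (a := 2 * c - 15) (by omega) (by omega) hx (by
        have h2 := J_per S (2 * c - 15) (2 * c - 8)
        rw [show 2 * c - 15 + 16 = 1 + 2 * c by ring, show 2 * c - 8 + 16 = 8 + 2 * c by ring] at h2
        rw [show 2 * c - 15 + 7 = 2 * c - 8 by ring, ← h2]
        exact h1)
      exact J_mono le_rfl (by omega) this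
  · have h1 : x ∈ J S.XZ (2 * c - 8) (2 * c - 1) := by
      have := hc.mem_J hx' (a' := 2 * c - 8) (b' := 2 * c - 1) le_rfl le_rfl
      have e : w * (w⁻¹ * x * w) * w⁻¹ = x := by group
      rwa [e] at this
    rcases lt_or_ge 0 c with hc0 | hc0
    · rcases le_or_gt c 4 with h | h
      · right
        have := inter_lo S hF (a := 2 * c - 8) (by omega) (by omega) hx (by
          rw [show 2 * c - 8 + 7 = 2 * c - 1 by ring]; exact h1)
        exact J_mono le_rfl (by omega) this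
      · left
        have := inter_hi S hF (a := 2 * c - 8) (by omega) (by omega) hx (by
          rw [show 2 * c - 8 + 7 = 2 * c - 1 by ring]; exact h1)
        exact J_mono (by omega) le_rfl this
    · have hc0' : c = 0 := by omega
      subst hc0'
      left
      have h2 := J_per S (-8) (-1)
      norm_num at h1 h2
      have := inter_hi S hF (a := 8) (by norm_num) (by norm_num) hx (by
        norm_num
        rw [h2]
        exact h1)
      exact J_mono (by norm_num) le_rfl this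

end Cfsg.Agent.H539.OF
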