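import Cfsg.Agent.H539.OF.Mean
import Cfsg.Agent.H743.GG.CountAbs
import Cfsg.Agent.H857.GG.Own
import Cfsg.Agent.Characters.Brauer

/-!
# S4884, the row `²F₄(Q)` (helper539): the counting theorem and the row, from the pieces

* `Pieces` : the facts on packets and on the Gelfand-Graev character (helper743, helper978, helper148);
* `mS_le` : `mS χ ∈ {0, 1, -1}`;
* `row_of_pieces` : `1 ≠ χ ∈ B_0(q)` of odd degree prime to `q`.
-/

set_option autoImplicit false
set_option linter.unusedSectionVars false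

open scoped ComplexConjugate

namespace Cfsg.Agent.H539.OF

open Cfsg Cfsg.Agent.SplitTwo Cfsg.Agent.SplitTwo.ZS Cfsg.Agent.TitsThree.RankTwoZ Cfsg.Agent.KFacts.TwF4
open Cfsg.Agent.KFacts.TwF4.Full Cfsg.Agent.KFacts.TwF4.SylU Cfsg.Agent.KFacts.TwF4.Inv Cfsg.Agent.KFacts.TwF4.Arc
open Cfsg.Agent.KFacts.TwF4.AutTau Cfsg.Agent.H40.OC Cfsg.Agent.OddOrderCharacters.Clifford
open Cfsg.Agent.Characters
open Cfsg.Agent.SplitTwo.RootSysZ Subgroup

universe u

variable {F : Type*} [Field F] {σ : F →+* F} {G : Type u} [Group G] (S : Full σ G)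

/-- the facts on the packets and on the Gelfand-Graev character -/
structure Pieces [Fintype G] [Fintype ↥(UU S)] (lam : Fin 2 → (↥(UU S) →* ℂˣ)) : Prop where
  ps_eq : ∀ l l' : ↥(BB S) →* ℂˣ, Ps S l → Ps S l' → classInner (RB S l) (RB S l') ≠ 0 → RB S l = RB S l'
  ps_cusp : ∀ (l : ↥(BB S) →* ℂˣ) (i : Fin 2) (μ : ↥(Par S i) → ℂ), Ps S l → CuspP S i μ →
    classInner (RB S l) (RP S i μ) = 0
  cusp_ne : ∀ (i j : Fin 2) (μ : ↥(Par S i) → ℂ) (ν : ↥(Par S j) → ℂ), i ≠ j → CuspP S i μ → CuspP S j ν →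
    classInner (RP S i μ) (RP S j ν) = 0
  cusp_eq : ∀ (i : Fin 2) (μ μ' : ↥(Par S i) → ℂ), CuspP S i μ → CuspP S i μ' →
    classInner (RP S i μ) (RP S i μ') ≠ 0 → RP S i μ = RP S i μ'
  cuspG_ps : ∀ (χ : G → ℂ) (l : ↥(BB S) →* ℂˣ), CuspG S χ → Ps S l → classInner (RB S l) χ = 0
  cuspG_cusp : ∀ (χ : G → ℂ) (i : Fin 2) (μ : ↥(Par S i) → ℂ), CuspG S χ → CuspP S i μ → classInner (RP S i μ) χ = 0
  exhaust : ∀ χ : G → ℂ, IsIrrCharacter G χ → (∃ l, Ps S l ∧ classInner (RB S l) χ ≠ 0) ∨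
    (∃ i μ, CuspP S i μ ∧ classInner (RP S i μ) χ ≠ 0) ∨ CuspG S χ
  gg_one : ∀ χ : G → ℂ, IsIrrCharacter G χ →
    classInner (fun u : ↥(UU S) => χ u) (fun u : ↥(UU S) => (psi lam Finset.univ u : ℂ)) = 0 ∨
    classInner (fun u : ↥(UU S) => χ u) (fun u : ↥(UU S) => (psi lam Finset.univ u : ℂ)) = 1
  gg_par : ∀ (i : Fin 2) (μ : ↥(Par S i) → ℂ), CuspP S i μ →
    classInner (fun u : ↥(UU S) => μ ⟨u, U_le_Par S i u.2⟩) (fun u : ↥(UU S) => (lam i u : ℂ)) = 0 ∨
    classInner (fun u : ↥(UU S) => μ ⟨u, U_le_Par S i u.2⟩) (fun u : ↥(UU S) => (lam i u : ℂ)) = 1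
  gg_norm : ∃ M : ℕ, classInner (Gam S lam) (Gam S lam) = M ∧ (Nat.card F) ^ 2 ≤ M
  ps_gg : ∀ l : ↥(BB S) →* ℂˣ, Ps S l → classInner (RB S l) (Gam S lam) = 1
  cusp_gg : ∀ (i : Fin 2) (μ : ↥(Par S i) → ℂ), CuspP S i μ → classInner (RP S i μ) (Gam S lam) =
    classInner (fun u : ↥(UU S) => μ ⟨u, U_le_Par S i u.2⟩) (fun u : ↥(UU S) => (lam i u : ℂ))

theorem uniq_zero {s s' : F} {y y' : G} (hy : y ∈ J S.XZ 2 8) (hy' : y' ∈ J S.XZ 2 8)
    (h : S.o 0 s * y = S.o 0 s' * y') : s = s' := by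
  have h1 : S.o 0 (s' + s) * y ∈ DD S 0 := by
    rw [← S.o_add, mul_assoc, h, ← mul_assoc, S.o_add, char2 S, S.o_zero, one_mul]
    exact hy'
  exact (add_left_cancel ((char2 S s').trans ((coord_zero S hy).1 h1).symm)).symm

theorem uniq_one {p v p' v' : F} {y y' : G} (hy : y ∈ J S.XZ 1 7) (hy' : y' ∈ J S.XZ 1 7)
    (h : S.e 4 p v * y = S.e 4 p' v' * y') : p = p' := by
  have h1 : (S.e 4 p' v')⁻¹ * (S.e 4 p v) * y ∈ DD S 1 := by
    rw [mul_assoc, h, inv_mul_cancel_left]
    exact Vr_le_DD S 1 hy'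
  rw [e_inv, S.e_mul] at h1
  exact (add_left_cancel ((char2 S p').trans ((coord_one S hy).1 h1).symm)).symm

/-- the coordinate at the node `0` -/
noncomputable def cor0 : ↥(UU S) →* Multiplicative F :=
  MonoidHom.mk' (fun u => Multiplicative.ofAdd (U_zero S u.2).choose) (by
    intro u v
    obtain ⟨y, hy, e⟩ := (U_zero S u.2).choose_spec
    obtain ⟨z, hz, e'⟩ := (U_zero S v.2).choose_spec
    obtain ⟨w, hw, e''⟩ := (U_zero S (u * v).2).choose_spec
    rw [← ofAdd_add]
    congr 1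
    refine uniq_zero S hw (y' := (S.o 0 (U_zero S v.2).choose)⁻¹ * y * S.o 0 (U_zero S v.2).choose * z)
      (mul_mem (conj28' S (o0_mem S _) hy) hz) ?_
    rw [← e'', ← S.o_add]
    have : ((u * v : ↥(UU S)) : G) = (u : G) * v := rfl
    rw [this]
    nth_rw 1 [e, e']
    group)

theorem cor0_apply {u : ↥(UU S)} {s : F} {y : G} (hy : y ∈ J S.XZ 2 8) (h : (u : G) = S.o 0 s * y) :
    cor0 S u = Multiplicative.ofAdd s := by
  obtain ⟨z, hz, e⟩ := (U_zero S u.2).choose_spec
  show Multiplicative.ofAdd _ = _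
  congr 1
  exact uniq_zero S hz hy (e.symm.trans h)

/-- the coordinate at the node `1` -/
noncomputable def cor1 : ↥(UU S) →* Multiplicative F :=
  MonoidHom.mk' (fun u => Multiplicative.ofAdd (U_one S u.2).choose) (by
    intro u v
    obtain ⟨p, y, hy, e⟩ := (U_one S u.2).choose_spec
    obtain ⟨q, z, hz, e'⟩ := (U_one S v.2).choose_spec
    obtain ⟨r, w, hw, e''⟩ := (U_one S (u * v).2).choose_spec
    rw [← ofAdd_add]
    congr 1
    have key : S.e 4 (U_one S (u * v).2).choose r * w =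
        S.e 4 ((U_one S u.2).choose + (U_one S v.2).choose) (p + q + (U_one S u.2).choose * σ (U_one S v.2).choose) *
          ((S.e 4 (U_one S v.2).choose q)⁻¹ * y * S.e 4 (U_one S v.2).choose q * z) := by
      rw [← e'', ← S.e_mul]
      have : ((u * v : ↥(UU S)) : G) = (u : G) * v := rfl
      rw [this]
      nth_rw 1 [e, e']
      group
    exact uniq_one S hw (mul_mem (conj17' S (e4_mem S _ _) hy) hz) key)

theorem cor1_apply {u : ↥(UU S)} {p v : F} {y : G} (hy : y ∈ J S.XZ 1 7) (h : (u : G) = S.e 4 p v * y) :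
    cor1 S u = Multiplicative.ofAdd p := by
  obtain ⟨q, z, hz, e⟩ := (U_one S u.2).choose_spec
  show Multiplicative.ofAdd _ = _
  congr 1
  exact uniq_one S hz hy (e.symm.trans h)

/-- a nontrivial linear character of the additive group of `F` -/
theorem exists_char (K : Type*) [Field K] [Finite K] : ∃ e : Multiplicative K →* ℂˣ, e ≠ 1 := by
  have h1 : (Multiplicative.ofAdd (1 : K)) ≠ 1 := fun h => one_ne_zero (congrArg Multiplicative.toAdd h)
  obtain ⟨e, he⟩ := CommGroup.exists_apply_ne_one_of_hasEnoughRootsOfUnity (Multiplicative K) ℂ h1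
  exact ⟨e, fun h2 => he (by rw [h2]; rfl)⟩

/-- a nontrivial linear character of the coordinate -/
theorem exists_lam_i [Finite F] (i : Fin 2) :
    ∃ f : ↥(UU S) →* ℂˣ, (∀ u : ↥(UU S), (u : G) ∈ DD S i → f u = 1) ∧ f ≠ 1 := by
  obtain ⟨e, he⟩ := exists_char F
  have he' : ∃ s : F, e (Multiplicative.ofAdd s) ≠ 1 := by
    by_contra hcon
    push Not at hcon
    exact he (MonoidHom.ext fun s => hcon s.toAdd)
  obtain ⟨s, hs⟩ := he'
  fin_cases i
  · refine ⟨e.comp (cor0 S), fun u hu => ?_, fun h => hs ?_⟩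
    · have hu' : (u : G) ∈ J S.XZ 2 8 := hu
      rw [MonoidHom.comp_apply, cor0_apply S (s := 0) hu' (by rw [S.o_zero, one_mul])]
      exact map_one e
    · have h1 := congrArg (fun f : ↥(UU S) →* ℂˣ => f ⟨S.o 0 s, o0_mem S s⟩) h
      have h2 : cor0 S ⟨S.o 0 s, o0_mem S s⟩ = Multiplicative.ofAdd s := cor0_apply S (one_mem _) (mul_one _).symm
      rw [← h2]
      exact h1
  · refine ⟨e.comp (cor1 S), fun u hu => ?_, fun h => hs ?_⟩
    · have hu' : (u : G) ∈ DD S 1 := hu
      obtain ⟨v, y, hy, e1⟩ := (mem_DD_one S).1 hu'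
      rw [MonoidHom.comp_apply, cor1_apply S hy e1]
      exact map_one e
    · have h1 := congrArg (fun f : ↥(UU S) →* ℂˣ => f ⟨S.e 4 s 0, e4_mem S s 0⟩) h
      have h2 : cor1 S ⟨S.e 4 s 0, e4_mem S s 0⟩ = Multiplicative.ofAdd s := cor1_apply S (one_mem _) (mul_one _).symm
      rw [← h2]
      exact h1

theorem exists_lam [Finite F] : ∃ lam : Fin 2 → (↥(UU S) →* ℂˣ), Lam (UU S) (DD S) lam := by
  choose f h1 h2 using exists_lam_i S
  exact ⟨f, ⟨h1, h2⟩⟩

variable [Finite F] [Fintype G] (hF : ∃ c : Fˣ, c ≠ 1) (hR : S.R.p = 2)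

theorem isCharacter_RB (l : ↥(BB S) →* ℂˣ) : IsCharacter G (RB S l) :=
  Brauer.isCharacter_indFun _ (Linear.isCharacter_hom l)

theorem isCharacter_RP {i : Fin 2} {μ : ↥(Par S i) → ℂ} (hμ : CuspP S i μ) : IsCharacter G (RP S i μ) :=
  Brauer.isCharacter_indFun _ (Core.isIrr_isCharacter hμ.irr)

theorem isCharacter_Gam (lam : Fin 2 → (↥(UU S) →* ℂˣ)) : IsCharacter G (Gam S lam) :=
  Brauer.isCharacter_indFun _ (Linear.isCharacter_hom _)

/-- Frobenius reciprocity for `Gam` -/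
theorem classInner_Gam [Fintype ↥(UU S)] (lam : Fin 2 → (↥(UU S) →* ℂˣ)) {χ : G → ℂ} (hχ : IsClassFunction G χ) :
    classInner χ (Gam S lam) =
      classInner (fun u : ↥(UU S) => χ u) (fun u : ↥(UU S) => (psi lam Finset.univ u : ℂ)) := by
  rw [← Core.classInner_conj_symm]
  unfold Gam
  rw [classInner_indFun _ _ χ hχ, Core.classInner_conj_symm]

include hF hR in
/-- the means are integers congruent to the degrees modulo two -/
theorem mS_int {χ : G → ℂ} (hχ : IsCharacter G χ) :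
    ∃ (c : ℤ) (d : ℕ), mS S χ = c ∧ χ 1 = d ∧ (2 : ℤ) ∣ d - c := by
  classical
  have : Fintype ↥(UU S) := Fintype.ofFinite _
  have : Fintype ↥S.T := Fintype.ofFinite _
  have hfact : Fact (Nat.Prime 2) := ⟨Nat.prime_two⟩
  obtain ⟨lam, hl⟩ := exists_lam S
  rw [mS_eq S]
  exact mr_congr (sys S) hl (Cfsg.Agent.KFacts.TwF4.Perf.two_J S hR (by norm_num)) (lin_triv S hF)
    (Core.isCharacter_comp (UU S).subtype hχ)
    fun t _ u _ => conj_T_of_class (Core.isCharacter_isClassFunction hχ) t u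

/-- the packets -/
noncomputable def RR (x : {l : ↥(BB S) →* ℂˣ // Ps S l} ⊕ ((Σ i, {μ : ↥(Par S i) → ℂ // CuspP S i μ}) ⊕
    {χ : G → ℂ // CuspG S χ})) : G → ℂ :=
  Sum.elim (fun l => RB S l.1) (Sum.elim (fun p => RP S p.1 p.2.1) fun χ => χ.1) x

include hF hR in
/-- **the counting theorem** -/
theorem mS_le [Fintype ↥(UU S)] {lam : Fin 2 → (↥(UU S) →* ℂˣ)} (hl : Lam (UU S) (DD S) lam) (hP : Pieces S lam)
    {χ : G → ℂ} (hχ : IsIrrCharacter G χ) : mS S χ = 0 ∨ mS S χ = 1 ∨ mS S χ = -1 := by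
  classical
  have hsym : ∀ a b : G → ℂ, conj (classInner a b) = classInner b a := fun a b => Core.classInner_conj_symm a b
  have key := Cfsg.Agent.H743.GG.count_abs (Γ := Gam S lam) (Ξ := Xi S lam) (isCharacter_Gam S lam)
    (fun ψ hψ => by
      rw [← hsym, classInner_Gam S lam (Core.isCharacter_isClassFunction (Core.isIrr_isCharacter hψ))]
      rcases hP.gg_one ψ hψ with h | h
      · left; rw [h, map_zero]
      · right; rw [h, map_one])
    (isClass_Xi S lam)
    (fun ψ hψ => by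
      obtain ⟨c, d, h1, -, -⟩ := mS_int S hF hR (Core.isIrr_isCharacter hψ)
      refine ⟨c, ?_⟩
      rw [← hsym, classInner_Xi S hl (Core.isCharacter_isClassFunction (Core.isIrr_isCharacter hψ)), h1, map_intCast])
    (N := (Nat.card F) ^ 2) (M := hP.gg_norm.choose) (by rw [Xi_norm S hF hl]; push_cast; rfl)
    hP.gg_norm.choose_spec.1 hP.gg_norm.choose_spec.2 (RR S)
    (by
      rintro (l | ⟨i, μ⟩ | χ)
      · exact isCharacter_RB S l.1
      · exact isCharacter_RP S μ.2
      · exact Core.isIrr_isCharacter χ.2.irr)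
    (by
      intro ψ hψ
      rcases hP.exhaust ψ hψ with ⟨l, h1, h2⟩ | ⟨i, μ, h1, h2⟩ | h
      · exact ⟨Sum.inl ⟨l, h1⟩, h2⟩
      · exact ⟨Sum.inr (Sum.inl ⟨i, μ, h1⟩), h2⟩
      · refine ⟨Sum.inr (Sum.inr ⟨ψ, h⟩), ?_⟩
        show classInner ψ ψ ≠ 0
        rw [Core.classInner_irr_self hψ]
        exact one_ne_zero)
    (by
      have h0 : ∀ a b : G → ℂ, classInner a b = 0 → classInner b a = 0 := fun a b h => by rw [← hsym, h, map_zero]
      rintro (l | ⟨i, μ⟩ | χ) (l' | ⟨j, ν⟩ | χ') h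
      · exact hP.ps_eq _ _ l.2 l'.2 h
      · exact absurd (hP.ps_cusp _ _ _ l.2 ν.2) h
      · exact absurd (hP.cuspG_ps _ _ χ'.2 l.2) h
      · exact absurd (h0 _ _ (hP.ps_cusp _ _ _ l'.2 μ.2)) h
      · by_cases hij : i = j
        · subst hij
          exact hP.cusp_eq _ _ _ μ.2 ν.2 h
        · exact absurd (hP.cusp_ne _ _ _ _ hij μ.2 ν.2) h
      · exact absurd (hP.cuspG_cusp _ _ _ χ'.2 μ.2) h
      · exact absurd (h0 _ _ (hP.cuspG_ps _ _ χ.2 l'.2)) h
      · exact absurd (h0 _ _ (hP.cuspG_cusp _ _ _ χ.2 ν.2)) h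
      · by_contra hne
        exact h (Core.classInner_irr_ne χ.2.irr χ'.2.irr hne))
    (by
      rintro (l | ⟨i, μ⟩ | χ)
      · right; exact hP.ps_gg _ l.2
      · have h1 := hP.cusp_gg _ _ μ.2
        rcases hP.gg_par _ _ μ.2 with h | h
        · left; exact h1.trans h
        · right; exact h1.trans h
      · have h1 := classInner_Gam S lam (Core.isCharacter_isClassFunction (Core.isIrr_isCharacter χ.2.irr))
        rcases hP.gg_one _ χ.2.irr with h | h
        · left; exact h1.trans h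
        · right; exact h1.trans h)
    (by
      rintro (l | ⟨i, μ⟩ | χ)
      · left
        show classInner (RB S l.1) (Xi S lam) = classInner (RB S l.1) (Gam S lam)
        rw [classInner_Xi S hl (Core.isCharacter_isClassFunction (isCharacter_RB S l.1)), mS_RB S hF hR l.2,
          hP.ps_gg _ l.2]
      · right
        show classInner (RP S i μ.1) (Xi S lam) = - classInner (RP S i μ.1) (Gam S lam)
        rw [classInner_Xi S hl (Core.isCharacter_isClassFunction (isCharacter_RP S μ.2)), mS_RP S hl hF hR μ.2,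
          hP.cusp_gg _ _ μ.2]
      · left
        show classInner χ.1 (Xi S lam) = classInner χ.1 (Gam S lam)
        rw [classInner_Xi S hl (Core.isCharacter_isClassFunction (Core.isIrr_isCharacter χ.2.irr)),
          classInner_Gam S lam (Core.isCharacter_isClassFunction (Core.isIrr_isCharacter χ.2.irr)),
          mS_cusp S hl χ.2])
    hχ
  rw [← classInner_Xi S hl (Core.isCharacter_isClassFunction (Core.isIrr_isCharacter hχ)), ← hsym]
  rcases key with h | h | h
  · left; rw [h, map_zero]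
  · right; left; rw [h, map_one]
  · right; right; rw [h, map_neg, map_one]

include hF hR in
/-- **the row**: a nontrivial character of the principal `q`-block of odd degree prime to `q` -/
theorem row_of_pieces [Fintype ↥(UU S)] {lam : Fin 2 → (↥(UU S) →* ℂˣ)} (hl : Lam (UU S) (DD S) lam)
    (hP : Pieces S lam) {q : ℕ} (hq : q.Prime) (hq2 : q ≠ 2) (hd : q ∣ Nat.card G) {M : Ideal AlgInt}
    (hM : IsPModular q M) : ∃ χ : IrrCharacter G, χ ∈ principalBlock M G ∧ (χ : G → ℂ) ≠ (fun _ => 1) ∧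
      ¬ 2 ∣ charDegree (χ : G → ℂ) ∧ ¬ q ∣ charDegree (χ : G → ℂ) := by
  classical
  have hsym : ∀ a b : G → ℂ, conj (classInner a b) = classInner b a := fun a b => Core.classInner_conj_symm a b
  choose c d h1 h2 h3 using fun χ : IrrCharacter G => mS_int S hF hR (Core.isIrr_isCharacter χ.2)
  obtain ⟨χ, k1, k2, k3, k4, -⟩ := H857.GG.exists_of_support_one (r := 2) hM hq Nat.prime_two hq2 hd
    (isClass_Xi S lam) c (fun χ => by
      rw [← hsym, classInner_Xi S hl (Core.isCharacter_isClassFunction (Core.isIrr_isCharacter χ.2)), h1, map_intCast])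
    (by
      have e : c (H319.PQ.triv G) = 1 := by
        have e1 := h1 (H319.PQ.triv G)
        have e2 : mS S ((H319.PQ.triv G : IrrCharacter G) : G → ℂ) = 1 := mS_const S fun u _ => rfl
        rw [e2] at e1
        exact_mod_cast e1.symm
      rw [e]
      intro h
      have := Int.eq_one_of_dvd_one (by positivity) h
      have : q = 1 := by exact_mod_cast this
      exact hq.one_lt.ne' this)
    (by
      intro g hg
      by_contra hcon
      apply hg
      refine Xi_eq_zero S hl fun x hx => hcon ?_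
      obtain ⟨k, hk⟩ := pow_two_U S hR hx.1
      refine ⟨k, ?_⟩
      rw [conj_pow'] at hk
      have e : g ^ 2 ^ k = x * (x⁻¹ * g ^ 2 ^ k * x) * x⁻¹ := by group
      rw [e, hk]
      group)
    (by
      intro χ
      have := mS_le S hF hR hl hP χ.2
      rw [h1] at this
      rcases this with h | h | h
      · left; exact_mod_cast h
      · right; left; exact_mod_cast h
      · right; right; exact_mod_cast h)
    (by
      intro χ
      have e : (charDegree (χ : G → ℂ) : ℤ) = d χ := by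
        have e1 := Blocks.Basic.irr_one_eq_charDegree χ.2
        rw [h2 χ] at e1
        exact_mod_cast e1.symm
      rw [e]
      exact h3 χ)
  exact ⟨χ, k1, k2, k4, k3⟩

end Cfsg.Agent.H539.OF
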