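import Cfsg.Agent.H743.EP.TwF
import Cfsg.Agent.H40.OC.Cong
import Cfsg.Agent.H45.GG.Mackey
import Cfsg.Agent.H743.GG.CountAbs

/-!
# S4884, own characteristic: the row `²F₄(Q)`, `Q > 2` (helper539): definitions

`S : Full σ G`; `U = J 1 8`, `T`, `BB = T U`, simple roots `kk 0 = 1`, `kk 1 = 8`, opposite roots `ko 0 = 9`, `ko 1 = 0`,
reflections `nn 0 = n1`, `nn 1 = n2`, `w0 = rot ^ 4`; parabolic subgroups `Par i`, unipotent radicals `Vr i`
(`Vr 0 = J 2 8`, `Vr 1 = J 1 7`), kernels of the coordinates `DD 0 = J 2 8`, `DD 1 = J 1 7 ⊔ Z_8`.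
* `CuspP i μ` : cuspidal irreducible characters of `Par i` (trivial on `Vr i`, no fixed vectors of `X_{kk i}`);
* `CuspG χ` : cuspidal irreducible characters of `G`.
-/

set_option autoImplicit false
set_option linter.unusedSectionVars false

namespace Cfsg.Agent.H539.OF

open Cfsg Cfsg.Agent.SplitTwo Cfsg.Agent.SplitTwo.ZS Cfsg.Agent.TitsThree.RankTwoZ Cfsg.Agent.KFacts.TwF4
open Cfsg.Agent.KFacts.TwF4.Full Cfsg.Agent.KFacts.TwF4.SylU Cfsg.Agent.KFacts.TwF4.Inv Cfsg.Agent.KFacts.TwF4.Arc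
open Cfsg.Agent.SplitTwo.RootSysZ Subgroup

universe u

variable {F : Type*} [Field F] {σ : F →+* F} {G : Type u} [Group G] (S : Full σ G)

/-- the maximal unipotent subgroup -/
abbrev UU : Subgroup G := J S.XZ 1 8

/-- the Borel subgroup -/
def BB : Subgroup G := S.T ⊔ J S.XZ 1 8

/-- simple roots -/
def kk (i : Fin 2) : ℤ := ![1, 8] i

/-- their opposites -/
def ko (i : Fin 2) : ℤ := ![9, 0] i

/-- the simple root groups -/
def Xs (i : Fin 2) : Subgroup G := S.XZ (kk i)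

/-- the opposite root groups -/
def Xo (i : Fin 2) : Subgroup G := S.XZ (ko i)

/-- the unipotent radicals of the parabolic subgroups -/
def Vr (i : Fin 2) : Subgroup G := ![J S.XZ 2 8, J S.XZ 1 7] i

/-- the parabolic subgroups -/
def Par (i : Fin 2) : Subgroup G := ![S.T ⊔ J S.XZ 1 9, S.T ⊔ J S.XZ 0 8] i

/-- the kernels of the coordinates of `U` -/
def DD (i : Fin 2) : Subgroup G := ![J S.XZ 2 8, J S.XZ 1 7 ⊔ S.Zc 4] i

/-- the simple reflections -/
def nn (i : Fin 2) : G := ![S.n1, S.n2] i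

/-- the longest element -/
def w0 : G := S.rot ^ (4 : ℤ)

/-! ### inclusions -/

theorem U_le_BB : UU S ≤ BB S := le_sup_right
theorem T_le_BB : S.T ≤ BB S := le_sup_left

theorem Xs_le_U (i : Fin 2) : Xs S i ≤ UU S := by
  fin_cases i
  · exact (X_le_J (by norm_num) (by norm_num) : S.XZ 1 ≤ J S.XZ 1 8)
  · exact (X_le_J (by norm_num) (by norm_num) : S.XZ 8 ≤ J S.XZ 1 8)

theorem Vr_le_U (i : Fin 2) : Vr S i ≤ UU S := by
  fin_cases i
  · exact J_mono (by norm_num) (by norm_num)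
  · exact J_mono (by norm_num) (by norm_num)

theorem U_le_Par (i : Fin 2) : UU S ≤ Par S i := by
  fin_cases i
  · exact (J_mono (by norm_num) (by norm_num) : UU S ≤ J S.XZ 1 9).trans le_sup_right
  · exact (J_mono (by norm_num) (by norm_num) : UU S ≤ J S.XZ 0 8).trans le_sup_right

theorem T_le_Par (i : Fin 2) : S.T ≤ Par S i := by
  fin_cases i
  · exact le_sup_left
  · exact le_sup_left

theorem BB_le_Par (i : Fin 2) : BB S ≤ Par S i := sup_le (T_le_Par S i) (U_le_Par S i)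

theorem Xs_le_Par (i : Fin 2) : Xs S i ≤ Par S i := (Xs_le_U S i).trans (U_le_Par S i)

theorem Vr_le_Par (i : Fin 2) : Vr S i ≤ Par S i := (Vr_le_U S i).trans (U_le_Par S i)

theorem Xo_le_Par (i : Fin 2) : Xo S i ≤ Par S i := by
  fin_cases i
  · exact (X_le_J (by norm_num) (by norm_num) : S.XZ 9 ≤ J S.XZ 1 9).trans le_sup_right
  · exact (X_le_J (by norm_num) (by norm_num) : S.XZ 0 ≤ J S.XZ 0 8).trans le_sup_right

theorem DD_le (i : Fin 2) : DD S i ≤ UU S := by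
  fin_cases i
  · exact J_mono (by norm_num) (by norm_num)
  · refine sup_le (J_mono (by norm_num) (by norm_num)) ?_
    rintro _ ⟨u, rfl⟩
    refine mem_J (k := 8) ?_ (by norm_num) (by norm_num)
    exact (mem_X8 S).2 ⟨0, u, rfl⟩

theorem Vr_le_DD (i : Fin 2) : Vr S i ≤ DD S i := by
  fin_cases i
  · exact le_rfl
  · exact le_sup_left

/-- the simple root group of the other node lies in the kernel of the coordinate -/
theorem Xs_le_Vr {i j : Fin 2} (h : i ≠ j) : Xs S i ≤ Vr S j := by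
  fin_cases i <;> fin_cases j
  · exact absurd rfl h
  · exact (X_le_J (by norm_num) (by norm_num) : S.XZ 1 ≤ J S.XZ 1 7)
  · exact (X_le_J (by norm_num) (by norm_num) : S.XZ 8 ≤ J S.XZ 2 8)
  · exact absurd rfl h

theorem nn_mem (i : Fin 2) : nn S i ∈ Par S i := by
  fin_cases i
  · refine (Subgroup.mem_sup_right ?_ : S.n1 ∈ S.T ⊔ J S.XZ 1 9)
    rw [S.n1_word]
    exact mul_mem (mul_mem (mem_J ((mem_X1 S).2 ⟨1, rfl⟩) (by norm_num) (by norm_num))
      (mem_J ((mem_X9 S).2 ⟨1, rfl⟩) (by norm_num) (by norm_num))) (mem_J ((mem_X1 S).2 ⟨1, rfl⟩) (by norm_num) (by norm_num))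
  · exact (Subgroup.mem_sup_right S.n2_mem : S.n2 ∈ S.T ⊔ J S.XZ 0 8)

/-! ### dihedral elements -/

/-- `w` acts as the rotation by `c` -/
def Rtn (c : ℤ) (w : G) : Prop := ∀ j x, x ∈ S.XZ j ↔ w * x * w⁻¹ ∈ S.XZ (j + c)

/-- Bruhat decomposition -/
theorem bruhat (g : G) : ∃ b ∈ UU S, ∃ w, S.IsDihE w ∧ ∃ b' ∈ UU S, g = b * w * b' := by
  obtain ⟨b, hb, t, ht, w, hw, b', hb', e⟩ := S.bruhatE g
  refine ⟨b, hb, t * w, ?_, b', hb', by rw [e, mul_assoc b]⟩
  obtain ⟨c, hw | hw⟩ := hw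
  · exact ⟨c, Or.inl ((Maps.mul ht hw).congr fun k => rfl)⟩
  · exact ⟨c, Or.inr ((Maps.mul ht hw).congr fun k => rfl)⟩

/-- normal form of the dihedral elements -/
theorem dih_cases {w : G} (hw : S.IsDihE w) : ∃ c : ℤ, 0 ≤ c ∧ c < 8 ∧ (Rtn S (2 * c) w ∨ Refl S.XZ (2 * c) w) := by
  obtain ⟨c, hw⟩ := hw
  refine ⟨c % 8, Int.emod_nonneg _ (by norm_num), Int.emod_lt_of_pos _ (by norm_num), ?_⟩
  have hc : ((2 * (c % 8) : ℤ) : ZMod (2 * 8)) = ((2 * c : ℤ) : ZMod (2 * 8)) := by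
    rw [ZMod.intCast_eq_intCast_iff_dvd_sub]
    push_cast
    omega
  rcases hw with hw | hw
  · left
    intro j x
    have h := hw (j : ZMod (2 * 8)) x
    show x ∈ S.R.X ((j : ℤ) : ZMod (2 * 8)) ↔ _ ∈ S.R.X (((j + 2 * (c % 8) : ℤ)) : ZMod (2 * 8))
    rw [Int.cast_add, hc, add_comm]
    exact h.symm
  · right
    intro j x
    have h := hw (j : ZMod (2 * 8)) x
    show x ∈ S.R.X ((j : ℤ) : ZMod (2 * 8)) ↔ _ ∈ S.R.X (((2 * (c % 8) - j : ℤ)) : ZMod (2 * 8))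
    rw [Int.cast_sub, hc]
    exact h.symm

/-- the root groups are periodic -/
theorem XZ_add (k : ℤ) : S.XZ (k + 16) = S.XZ k := by
  show S.R.X _ = S.R.X _
  congr 1
  rw [ZMod.intCast_eq_intCast_iff_dvd_sub]
  push_cast
  omega

/-! ### cuspidal characters -/

/-- cuspidal irreducible characters of the parabolic subgroup `Par i` -/
structure CuspP (i : Fin 2) (μ : ↥(Par S i) → ℂ) : Prop where
  irr : IsIrrCharacter ↥(Par S i) μ
  triv : ∀ g v : ↥(Par S i), (v : G) ∈ Vr S i → μ (g * v) = μ g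
  cusp : ∀ [Fintype ↥(Xs S i)], ∑ x : ↥(Xs S i), μ ⟨x, Xs_le_Par S i x.2⟩ = 0

/-- cuspidal irreducible characters of `G` -/
structure CuspG (χ : G → ℂ) : Prop where
  irr : IsIrrCharacter G χ
  cusp : ∀ i, ∀ [Fintype ↥(Vr S i)], ∑ v : ↥(Vr S i), χ v = 0

/-- principal series -/
structure Ps (l : ↥(BB S) →* ℂˣ) : Prop where
  triv : ∀ u : ↥(BB S), (u : G) ∈ UU S → l u = 1

/-- the characters of the three packets -/
noncomputable def RB [Fintype G] (l : ↥(BB S) →* ℂˣ) : G → ℂ := indFun (BB S) fun b => (l b : ℂ)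

noncomputable def RP [Fintype G] (i : Fin 2) (μ : ↥(Par S i) → ℂ) : G → ℂ := indFun (Par S i) μ

end Cfsg.Agent.H539.OF
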