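import Cfsg.Agent.H539.OF.Sy

/-!
# S4884, the row `²F₄(Q)` (helper539): regular elements

* `lin_triv` : linear characters of `U` are trivial on `⋂ DD S i`;
* `lam_sq` : the linear characters of the coordinates take the values `± 1`;
* `F1`, `F1_BB`, `F1_Par` : if `u` is regular and `g⁻¹ u g ∈ U, B, P_i`, then `g ∈ B, B, P_i`;
* `ind_reg` : the value of an induced function at `u`.
-/

set_option autoImplicit false
set_option linter.unusedSectionVars false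

open scoped ComplexConjugate Pointwise

namespace Cfsg.Agent.H539.OF

open Cfsg Cfsg.Agent.SplitTwo Cfsg.Agent.SplitTwo.ZS Cfsg.Agent.TitsThree.RankTwoZ Cfsg.Agent.KFacts.TwF4
open Cfsg.Agent.KFacts.TwF4.Full Cfsg.Agent.KFacts.TwF4.SylU Cfsg.Agent.KFacts.TwF4.Inv Cfsg.Agent.KFacts.TwF4.Arc
open Cfsg.Agent.KFacts.TwF4.AutTau Cfsg.Agent.H40.OC
open Cfsg.Agent.SplitTwo.RootSysZ Subgroup

universe u

variable {F : Type*} [Field F] {σ : F →+* F} {G : Type u} [Group G] (S : Full σ G)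

/-! ### linear characters -/

section lin

variable [Finite F] (hF : ∃ c : Fˣ, c ≠ 1)

include hF in
theorem lin_Z8 (f : ↥(UU S) →* ℂˣ) (w : F) : f ⟨S.e 4 0 w, e4_mem S 0 w⟩ = 1 := by
  obtain ⟨c, hc⟩ := hF
  -- the values on `Z_8`
  set φ : F → ℂˣ := fun w => f ⟨S.e 4 0 w, e4_mem S 0 w⟩ with hφ
  have hadd : ∀ a b, φ (a + b) = φ a * φ b := by
    intro a b
    show f _ = f _ * f _
    rw [← map_mul]
    congr 1
    apply Subtype.ext
    show S.e 4 0 (a + b) = S.e 4 0 a * S.e 4 0 b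
    rw [S.e_mul, add_zero, zero_mul, add_zero]
  have hcomm : ∀ p q, φ (p * σ q) = φ (q * σ p) := by
    intro p q
    have key : ∀ p q : F, f ⟨S.e 4 p 0, e4_mem S p 0⟩ * f ⟨S.e 4 q 0, e4_mem S q 0⟩ =
        f ⟨S.e 4 (p + q) 0, e4_mem S (p + q) 0⟩ * φ (p * σ q) := by
      intro p q
      show f _ * f _ = f _ * f _
      rw [← map_mul, ← map_mul]
      congr 1
      apply Subtype.ext
      show S.e 4 p 0 * S.e 4 q 0 = S.e 4 (p + q) 0 * S.e 4 0 (p * σ q)
      rw [S.e_mul, S.e_mul, map_zero, mul_zero, add_zero, add_zero, add_zero]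
    have h1 := key p q
    have h2 := key q p
    rw [mul_comm, h2, add_comm q p] at h1
    exact (mul_left_cancel h1).symm
  have h0 : φ 0 = 1 := by
    have := hadd 0 0
    rw [add_zero] at this
    exact (mul_eq_left.1 this.symm)
  have hsq : ∀ a, φ a * φ a = 1 := fun a => by rw [← hadd, char2 S, h0]
  have hc' : (c : F) + σ (c : F) ≠ 0 := by
    intro h
    have h1 : σ (c : F) = c := by
      have h2 : (c : F) + c = 0 := char2 S _
      exact (add_left_cancel (h.trans h2.symm))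
    have h2 := S.sq (c : F)
    rw [h1, h1, pow_two] at h2
    apply hc
    apply Units.ext
    rw [Units.val_one]
    exact (mul_eq_left₀ c.ne_zero).1 h2.symm
  rcases eq_or_ne w 0 with rfl | hw
  · exact h0
  · obtain ⟨x, hx⟩ := s1_surj S (Units.mk0 (w / ((c : F) + σ (c : F))) (div_ne_zero hw hc'))
    have hx' : (x : F) * σ (x : F) = w / ((c : F) + σ (c : F)) := congrArg Units.val hx
    have e : w = ((c : F) * x) * σ (x : F) + (x : F) * σ ((c : F) * x) := by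
      have : w = (w / ((c : F) + σ (c : F))) * ((c : F) + σ (c : F)) := (div_mul_cancel₀ _ hc').symm
      rw [this, ← hx', map_mul]
      ring
    show φ w = 1
    rw [e, hadd, hcomm, hsq]

include hF in
/-- linear characters of `U` are trivial on the intersection of the kernels of the coordinates -/
theorem lin_triv (f : ↥(UU S) →* ℂˣ) (u : ↥(UU S)) (hu : ∀ i, (u : G) ∈ DD S i) : f u = 1 := by
  obtain ⟨v, y, hy, e⟩ := (mem_DD_one S).1 (hu 1)
  have h0 : (u : G) ∈ J S.XZ 2 8 := hu 0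
  have hyU : y ∈ UU S := J_mono le_rfl (by norm_num) hy
  have hy2 : y ∈ J S.XZ 2 7 := by
    have h1 : y ∈ J S.XZ 2 8 := by
      have : y = (S.e 4 0 v)⁻¹ * u := by rw [e]; group
      rw [this]
      exact mul_mem (inv_mem (e4_mem28 S 0 v)) h0
    exact S.zsys8.inter_J 1 h1 hy (by norm_num) (by norm_num) (by norm_num) (by norm_num)
      (Or.inl le_rfl) (Or.inr le_rfl)
  have h1 : (⟨y, hyU⟩ : ↥(UU S)) ∈ f.ker := by
    have h2 : ⁅(⊤ : Subgroup ↥(UU S)), ⊤⁆ ≤ f.ker := Abelianization.commutator_subset_ker f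
    have h3 := Cfsg.Agent.H743.EP.TwF.J27_le S hF hy2
    have h4 : ⁅UU S, UU S⁆ = Subgroup.map (UU S).subtype ⁅(⊤ : Subgroup ↥(UU S)), ⊤⁆ := by
      rw [Subgroup.map_commutator, ← MonoidHom.range_eq_map, Subgroup.range_subtype]
    rw [h4] at h3
    obtain ⟨z, hz, hzy⟩ := h3
    have h5 : z = ⟨y, hyU⟩ := Subtype.ext hzy
    rw [← h5]
    exact h2 hz
  have e' : u = ⟨S.e 4 0 v, e4_mem S 0 v⟩ * ⟨y, hyU⟩ := Subtype.ext e
  rw [e', map_mul, lin_Z8 S hF f v, one_mul]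
  exact h1

end lin

theorem sq_mem_DD (i : Fin 2) {u : G} (hu : u ∈ UU S) : u * u ∈ DD S i := by
  fin_cases i
  · obtain ⟨s, y, hy, rfl⟩ := U_zero S hu
    show S.o 0 s * y * (S.o 0 s * y) ∈ J S.XZ 2 8
    have e : S.o 0 s * y * (S.o 0 s * y) = (S.o 0 s * S.o 0 s) * ((S.o 0 s)⁻¹ * y * S.o 0 s) * y := by group
    rw [e, S.o_add, char2 S, S.o_zero, one_mul]
    exact mul_mem (conj28' S (o0_mem S s) hy) hy
  · obtain ⟨p, v, y, hy, rfl⟩ := U_one S hu
    show S.e 4 p v * y * (S.e 4 p v * y) ∈ DD S 1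
    have e : S.e 4 p v * y * (S.e 4 p v * y) = (S.e 4 p v * S.e 4 p v) * (((S.e 4 p v)⁻¹ * y * S.e 4 p v) * y) := by
      group
    rw [e, e_sq S]
    exact (mem_DD_one S).2 ⟨_, _, mul_mem (conj17' S (e4_mem S p v) hy) hy, rfl⟩

/-- the linear characters of the coordinates take the values `± 1` -/
theorem lam_sq {lam : Fin 2 → (↥(UU S) →* ℂˣ)} (hl : Lam (UU S) (DD S) lam) (i : Fin 2) (u : ↥(UU S)) :
    lam i u * lam i u = 1 := by
  rw [← map_mul]
  exact hl.one i _ (sq_mem_DD S i u.2)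

theorem psi_sq {lam : Fin 2 → (↥(UU S) →* ℂˣ)} (hl : Lam (UU S) (DD S) lam) (J : Finset (Fin 2)) (u : ↥(UU S)) :
    psi lam J u * psi lam J u = 1 := by
  unfold psi
  rw [MonoidHom.finsetProd_apply, ← Finset.prod_mul_distrib]
  exact Finset.prod_eq_one fun i _ => lam_sq S hl i u

/-! ### regular elements -/

section reg

variable [Finite F] [Finite G] (hF : ∃ c : Fˣ, c ≠ 1) (hR : S.R.p = 2)

theorem J28_normal {u y : G} (hu : u ∈ UU S) : u⁻¹ * y * u ∈ J S.XZ 2 8 ↔ y ∈ J S.XZ 2 8 := by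
  refine ⟨fun h => ?_, fun h => conj28' S hu h⟩
  have := conj28 S hu h
  have e : u * (u⁻¹ * y * u) * u⁻¹ = y := by group
  rwa [e] at this

theorem J17_normal {u y : G} (hu : u ∈ UU S) : u⁻¹ * y * u ∈ J S.XZ 1 7 ↔ y ∈ J S.XZ 1 7 := by
  refine ⟨fun h => ?_, fun h => conj17' S hu h⟩
  have := conj17 S hu h
  have e : u * (u⁻¹ * y * u) * u⁻¹ = y := by group
  rwa [e] at this

include hF in
/-- **a conjugate of a regular element in `U`** -/
theorem F1 {u g : G} (hu : u ∈ UU S) (h1 : u ∉ J S.XZ 2 8) (h2 : u ∉ J S.XZ 1 7) (hg : g⁻¹ * u * g ∈ UU S) :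
    g ∈ BB S := by
  obtain ⟨b, hb, w, hw, b', hb', rfl⟩ := bruhat S g
  have hu' : b⁻¹ * u * b ∈ UU S := mul_mem (mul_mem (inv_mem hb) hu) hb
  have h3 : w⁻¹ * (b⁻¹ * u * b) * w ∈ UU S := by
    have := mul_mem (mul_mem hb' hg) (inv_mem hb')
    have e : b' * ((b * w * b')⁻¹ * u * (b * w * b')) * b'⁻¹ = w⁻¹ * (b⁻¹ * u * b) * w := by group
    rwa [e] at this
  by_cases hwT : w ∈ S.T
  · exact mul_mem (mul_mem (U_le_BB S hb) (T_le_BB S hwT)) (U_le_BB S hb')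
  · exfalso
    rcases inter_w S hF hw hwT hu' h3 with h4 | h4
    · exact h1 ((J28_normal S hb).1 h4)
    · exact h2 ((J17_normal S hb).1 h4)

/-- regular elements -/
def IsReg (u : G) : Prop := u ∈ UU S ∧ ∀ i, u ∉ DD S i

theorem IsReg.mem {u : G} (h : IsReg S u) : u ∈ UU S := h.1
theorem IsReg.zero {u : G} (h : IsReg S u) : u ∉ J S.XZ 2 8 := fun h1 => h.2 0 h1
theorem IsReg.one {u : G} (h : IsReg S u) : u ∉ J S.XZ 1 7 := fun h1 => h.2 1 (Vr_le_DD S 1 h1)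

include hR in
theorem pow_two_U {u : G} (hu : u ∈ UU S) : ∃ k : ℕ, u ^ 2 ^ k = 1 := by
  obtain ⟨k, hk⟩ := Cfsg.Agent.KFacts.TwF4.Perf.two_J S hR (a := 1) (b := 8) (by norm_num) ⟨u, hu⟩
  exact ⟨k, congrArg Subtype.val hk⟩

theorem conj_pow' (g u : G) (k : ℕ) : (g⁻¹ * u * g) ^ k = g⁻¹ * u ^ k * g := by
  have := conj_pow (i := k) (a := g⁻¹) (b := u)
  rwa [inv_inv] at this

include hF hR in
theorem F1_BB {u g : G} (hu : IsReg S u) (hg : g⁻¹ * u * g ∈ BB S) : g ∈ BB S := by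
  obtain ⟨k, hk⟩ := pow_two_U S hR hu.1
  refine F1 S hF hu.1 (hu.zero) (hu.one) (mem_U_of_BB S hg (k := k) ?_)
  rw [conj_pow', hk]
  group

include hF hR in
/-- elements of `2`-power order of a parabolic subgroup -/
theorem par_conj (i : Fin 2) {x : G} (hx : x ∈ Par S i) {k : ℕ} (h : x ^ 2 ^ k = 1) :
    ∃ p ∈ Par S i, p⁻¹ * x * p ∈ UU S := by
  have hfact : Fact (Nat.Prime 2) := ⟨Nat.prime_two⟩
  obtain ⟨P, hP⟩ := exists_sylow S hF hR
  have hle : (P : Subgroup G) ≤ Par S i := by rw [hP]; exact U_le_Par S i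
  have h1 : IsPGroup 2 (Subgroup.zpowers (⟨x, hx⟩ : ↥(Par S i))) := by
    rintro ⟨y, hy⟩
    obtain ⟨n, rfl⟩ := Subgroup.mem_zpowers_iff.1 hy
    refine ⟨k, Subtype.ext ?_⟩
    show ((⟨x, hx⟩ : ↥(Par S i)) ^ n) ^ 2 ^ k = 1
    have h2 : (⟨x, hx⟩ : ↥(Par S i)) ^ 2 ^ k = 1 := Subtype.ext h
    rw [← zpow_natCast, ← zpow_mul, mul_comm, zpow_mul, zpow_natCast, h2, one_zpow]
  obtain ⟨Q, hQ⟩ := h1.exists_le_sylow
  obtain ⟨p, hp⟩ := MulAction.exists_smul_eq ↥(Par S i) Q (P.subtype hle)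
  refine ⟨(p : G)⁻¹, inv_mem p.2, ?_⟩
  have h3 : p * (⟨x, hx⟩ : ↥(Par S i)) * p⁻¹ ∈ ((P.subtype hle : Sylow 2 ↥(Par S i)) : Subgroup ↥(Par S i)) := by
    rw [← hp]
    show _ ∈ ((MulAut.conj p • (Q : Subgroup ↥(Par S i)) : Subgroup ↥(Par S i)))
    exact Subgroup.smul_mem_pointwise_smul _ (MulAut.conj p) _ (hQ (Subgroup.mem_zpowers _))
  have h4 : (p : G) * x * (p : G)⁻¹ ∈ (P : Subgroup G) := h3
  rw [hP] at h4
  rwa [inv_inv]

include hF hR in
theorem F1_Par (i : Fin 2) {u g : G} (hu : IsReg S u) (hg : g⁻¹ * u * g ∈ Par S i) : g ∈ Par S i := by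
  obtain ⟨k, hk⟩ := pow_two_U S hR hu.1
  obtain ⟨p, hp, h1⟩ := par_conj S hF hR i hg (k := k) (by rw [conj_pow', hk]; group)
  have h2 : (g * p)⁻¹ * u * (g * p) ∈ UU S := by
    have e : (g * p)⁻¹ * u * (g * p) = p⁻¹ * (g⁻¹ * u * g) * p := by group
    rw [e]; exact h1
  have h3 := F1 S hF hu.1 (hu.zero) (hu.one) h2
  have h4 := mul_mem (BB_le_Par S i h3) (inv_mem hp)
  rwa [mul_inv_cancel_right] at h4

end reg

open Cfsg.Agent.OddOrderCharacters.Clifford in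
/-- the value of an induced class function at an element all of whose conjugates in `H` are conjugates in `H` -/
theorem ind_reg [Fintype G] (H : Subgroup G) {θ : ↥H → ℂ} (hθ : IsClassFunction ↥H θ) {u : G} (hu : u ∈ H)
    (h : ∀ g : G, g⁻¹ * u * g ∈ H → g ∈ H) : indFun H θ u = θ ⟨u, hu⟩ := by
  classical
  rw [indFun_apply]
  have h1 : ∀ x : G, extendByZero H θ (x⁻¹ * u * x) = if x ∈ H then θ ⟨u, hu⟩ else 0 := by
    intro x
    by_cases hx : x ∈ H
    · rw [if_pos hx, ext_apply_mem H θ _ (mul_mem (mul_mem (inv_mem hx) hu) hx)]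
      have h2 := hθ ⟨u, hu⟩ (⟨x, hx⟩ : ↥H)⁻¹
      rw [inv_inv] at h2
      exact h2
    · rw [if_neg hx, ext_apply_not_mem H θ _ fun h3 => hx (h x h3)]
  rw [Finset.sum_congr rfl fun x _ => h1 x, Finset.sum_ite, Finset.sum_const_zero, add_zero, Finset.sum_const,
    nsmul_eq_mul]
  have h3 : (Finset.univ.filter fun x : G => x ∈ H).card = Nat.card H := by
    rw [Nat.card_eq_fintype_card, Fintype.card_subtype]
  rw [h3, ← mul_assoc, inv_mul_cancel₀ (Nat.cast_ne_zero.2 Nat.card_pos.ne'), one_mul]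

end Cfsg.Agent.H539.OF
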