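import Cfsg.Agent.H539.OF.Xi

/-!
# S4884, the row `²F₄(Q)` (helper539): means of cuspidal characters

* `mS_RP` : `mS (Ind_{P_i} μ) = - [μ_U, lam i]` for cuspidal `μ`;
* `mS_cusp` : `mS χ = [χ_U, ψ]` for cuspidal `χ`.
-/

set_option autoImplicit false
set_option linter.unusedSectionVars false

open scoped ComplexConjugate

namespace Cfsg.Agent.H539.OF

open Cfsg Cfsg.Agent.SplitTwo Cfsg.Agent.SplitTwo.ZS Cfsg.Agent.TitsThree.RankTwoZ Cfsg.Agent.KFacts.TwF4
open Cfsg.Agent.KFacts.TwF4.Full Cfsg.Agent.KFacts.TwF4.SylU Cfsg.Agent.KFacts.TwF4.Inv Cfsg.Agent.KFacts.TwF4.Arc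
open Cfsg.Agent.KFacts.TwF4.AutTau Cfsg.Agent.H40.OC Cfsg.Agent.OddOrderCharacters.Clifford
open Cfsg.Agent.Characters
open Cfsg.Agent.SplitTwo.RootSysZ Subgroup

universe u

variable {F : Type*} [Field F] {σ : F →+* F} {G : Type u} [Group G] (S : Full σ G)

/-- `U = X_i D_i` -/
theorem exists_Xs (i : Fin 2) {u : G} (hu : u ∈ UU S) : ∃ x ∈ Xs S i, ∃ y ∈ DD S i, u = x * y := by
  fin_cases i
  · obtain ⟨s, y, hy, rfl⟩ := U_zero S hu
    exact ⟨S.o 0 s, (mem_X1 S).2 ⟨s, rfl⟩, y, hy, rfl⟩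
  · obtain ⟨p, v, y, hy, rfl⟩ := U_one S hu
    exact ⟨S.e 4 p v, (mem_X8 S).2 ⟨p, v, rfl⟩, y, Vr_le_DD S 1 hy, rfl⟩

section sums

variable {lam : Fin 2 → (↥(UU S) →* ℂˣ)} (hl : Lam (UU S) (DD S) lam)

include hl

/-- the coordinate character is not trivial on the root group -/
theorem lam_Xs_ne (i : Fin 2) : (lam i).comp (Subgroup.inclusion (Xs_le_U S i)) ≠ 1 := by
  intro h
  apply hl.ne i
  ext u
  obtain ⟨x, hx, y, hy, e⟩ := exists_Xs S i u.2
  have e' : u = ⟨x, Xs_le_U S i hx⟩ * ⟨y, DD_le S i hy⟩ := Subtype.ext e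
  have h1 : lam i ⟨x, Xs_le_U S i hx⟩ = 1 := congrArg (fun f : ↥(Xs S i) →* ℂˣ => f ⟨x, hx⟩) h
  rw [e', map_mul, h1, hl.one i _ hy, mul_one, MonoidHom.one_apply]

theorem psi_Xs {i : Fin 2} {J : Finset (Fin 2)} (hi : i ∈ J) {x : G} (hx : x ∈ Xs S i) :
    psi lam J ⟨x, Xs_le_U S i hx⟩ = lam i ⟨x, Xs_le_U S i hx⟩ := by
  classical
  unfold psi
  rw [MonoidHom.finsetProd_apply]
  refine Finset.prod_eq_single_of_mem i hi fun j _ hj => ?_
  exact hl.one j _ (Vr_le_DD S j (Xs_le_Vr S hj.symm hx))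

/-- the sum over a root group -/
theorem sum_psi_Xs {i : Fin 2} {J : Finset (Fin 2)} (hi : i ∈ J) [Fintype ↥(Xs S i)] :
    ∑ x : ↥(Xs S i), ((psi lam J ⟨x, Xs_le_U S i x.2⟩ : ℂˣ) : ℂ) = 0 := by
  have h1 := sum_hom_units_eq_zero ((Units.coeHom ℂ).comp ((lam i).comp (Subgroup.inclusion (Xs_le_U S i)))) (by
    intro h
    apply lam_Xs_ne S hl i
    ext x
    exact congrArg (fun f : ↥(Xs S i) →* ℂ => f x) h)
  rw [← h1]
  refine Finset.sum_congr rfl fun x _ => ?_
  rw [psi_Xs S hl hi x.2]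
  rfl

variable [Finite F] [Fintype G]

/-- **the pairings of a cuspidal character of `P_i` with the linear characters of `U`** -/
theorem cusp_psi [Fintype ↥(UU S)] {i : Fin 2} {μ : ↥(Par S i) → ℂ} (hμ : CuspP S i μ) {J : Finset (Fin 2)}
    (hJ : J ≠ {i}) : classInner (fun u : ↥(UU S) => μ ⟨u, U_le_Par S i u.2⟩) (fun u : ↥(UU S) => (psi lam J u : ℂ)) = 0 := by
  classical
  have hμc : IsCharacter ↥(UU S) (fun u : ↥(UU S) => μ ⟨u, U_le_Par S i u.2⟩) :=
    Core.isCharacter_comp (Subgroup.inclusion (U_le_Par S i)) (Core.isIrr_isCharacter hμ.irr)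
  have hψc : IsCharacter ↥(UU S) (fun u : ↥(UU S) => (psi lam J u : ℂ)) := Linear.isCharacter_hom _
  by_cases hJ0 : J = ∅
  · subst hJ0
    have : Fintype ↥(Xs S i) := Fintype.ofFinite _
    refine H53.HC.classInner_eq_zero_of_comp (Subgroup.inclusion (Xs_le_U S i)) hμc hψc ?_
    rw [classInner_apply]
    have h1 : ∀ x : ↥(Xs S i), ((fun u : ↥(UU S) => μ ⟨u, U_le_Par S i u.2⟩) ∘ (Subgroup.inclusion (Xs_le_U S i))) x *
        conj (((fun u : ↥(UU S) => (psi lam ∅ u : ℂ)) ∘ (Subgroup.inclusion (Xs_le_U S i))) x) =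
        μ ⟨x, Xs_le_Par S i x.2⟩ := by
      intro x
      show μ _ * conj ((psi lam ∅ _ : ℂˣ) : ℂ) = _
      rw [psi_apply, Finset.prod_empty, map_one, mul_one]
      rfl
    rw [Finset.sum_congr rfl fun x _ => h1 x, hμ.cusp, mul_zero]
  · obtain ⟨j, hj, hji⟩ : ∃ j ∈ J, j ≠ i := by
      by_contra hcon
      push Not at hcon
      apply hJ
      ext j
      rw [Finset.mem_singleton]
      refine ⟨fun h => hcon j h, ?_⟩
      rintro rfl
      obtain ⟨k, hk⟩ := Finset.nonempty_iff_ne_empty.2 hJ0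
      rw [← hcon k hk]
      exact hk
    have : Fintype ↥(Xs S j) := Fintype.ofFinite _
    refine H53.HC.classInner_eq_zero_of_comp (Subgroup.inclusion (Xs_le_U S j)) hμc hψc ?_
    rw [classInner_apply]
    have h1 : ∀ x : ↥(Xs S j), ((fun u : ↥(UU S) => μ ⟨u, U_le_Par S i u.2⟩) ∘ (Subgroup.inclusion (Xs_le_U S j))) x *
        conj (((fun u : ↥(UU S) => (psi lam J u : ℂ)) ∘ (Subgroup.inclusion (Xs_le_U S j))) x) =
        μ 1 * conj ((psi lam J ⟨x, Xs_le_U S j x.2⟩ : ℂˣ) : ℂ) := by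
      intro x
      have h2 := hμ.triv 1 ⟨x, U_le_Par S i (Xs_le_U S j x.2)⟩ (Xs_le_Vr S hji x.2)
      rw [one_mul] at h2
      rw [← h2]
      rfl
    rw [Finset.sum_congr rfl fun x _ => h1 x, ← Finset.mul_sum, ← map_sum, sum_psi_Xs S hl hj, map_zero, mul_zero,
      mul_zero]

variable (hF : ∃ c : Fˣ, c ≠ 1) (hR : S.R.p = 2)

include hF hR

/-- **the mean of `Ind_{P_i} μ`** -/
theorem mS_RP [Fintype ↥(UU S)] {i : Fin 2} {μ : ↥(Par S i) → ℂ} (hμ : CuspP S i μ) :
    mS S (RP S i μ) = - classInner (fun u : ↥(UU S) => μ ⟨u, U_le_Par S i u.2⟩) (fun u : ↥(UU S) => (lam i u : ℂ)) := by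
  classical
  have : Fintype ↥S.T := Fintype.ofFinite _
  have hμc : IsClassFunction ↥(Par S i) μ := Core.isCharacter_isClassFunction (Core.isIrr_isCharacter hμ.irr)
  have h1 : mS S (RP S i μ) = mr (UU S) (DD S) (extendByZero (Par S i) μ) := by
    rw [mS_eq S, mr_def, mr_def]
    congr 1
    refine Finset.sum_congr rfl fun u hu => ?_
    have hu' := (mem_Reg_iff S).1 hu
    rw [ext_apply_mem (Par S i) μ _ (U_le_Par S i u.2)]
    exact ind_reg (Par S i) hμc (U_le_Par S i u.2) fun g hg => F1_Par S hF hR i hu' hg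
  rw [h1, mr_eq (sys S) hl (φ := extendByZero (Par S i) μ)]
  · rw [Finset.sum_eq_single_of_mem ({i} : Finset (Fin 2)) (Finset.mem_univ _)]
    · rw [Finset.card_singleton, pow_one, neg_one_mul]
      congr 2
      · funext u
        exact ext_apply_mem (Par S i) μ _ (U_le_Par S i u.2)
      · funext u
        rw [psi_apply, Finset.prod_singleton]
    · intro J _ hJ
      have h2 : (fun u : ↥(UU S) => extendByZero (Par S i) μ u) = fun u : ↥(UU S) => μ ⟨u, U_le_Par S i u.2⟩ := by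
        funext u
        exact ext_apply_mem (Par S i) μ _ (U_le_Par S i u.2)
      rw [h2, cusp_psi S hl hμ hJ, mul_zero]
  · intro t ht u hu
    have hu' := U_le_Par S i hu
    have ht' := T_le_Par S i ht
    rw [ext_apply_mem (Par S i) μ _ hu', ext_apply_mem (Par S i) μ _ (mul_mem (mul_mem (inv_mem ht') hu') ht')]
    have := hμc ⟨u, hu'⟩ (⟨t, ht'⟩ : ↥(Par S i))⁻¹
    rw [inv_inv] at this
    exact this

omit hF hR in
/-- **the mean of a cuspidal character** -/
theorem mS_cusp [Fintype ↥(UU S)] {χ : G → ℂ} (hχ : CuspG S χ) :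
    mS S χ = classInner (fun u : ↥(UU S) => χ u) (fun u : ↥(UU S) => (psi lam Finset.univ u : ℂ)) := by
  classical
  have : Fintype ↥S.T := Fintype.ofFinite _
  have hχc : IsCharacter ↥(UU S) (fun u : ↥(UU S) => χ u) :=
    Core.isCharacter_comp (UU S).subtype (Core.isIrr_isCharacter hχ.irr)
  rw [mS_eq S, mr_eq (sys S) hl (φ := χ) fun t _ u _ =>
    conj_T_of_class (Core.isCharacter_isClassFunction (Core.isIrr_isCharacter hχ.irr)) t u]
  rw [Finset.sum_eq_single_of_mem (Finset.univ : Finset (Fin 2)) (Finset.mem_univ _)]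
  · rw [Finset.card_univ, Fintype.card_fin]
    norm_num
  · intro J _ hJ
    have hψc : IsCharacter ↥(UU S) (fun u : ↥(UU S) => (psi lam J u : ℂ)) := Linear.isCharacter_hom _
    obtain ⟨i, hi⟩ : ∃ i, ∀ j ∈ J, j = i := by
      have h3 : J.card ≤ 1 := by
        have h4 := Finset.card_lt_univ_of_notMem (s := J) (x := (Finset.univ \ J).min' (by
          rw [Finset.sdiff_nonempty]
          intro h
          exact hJ (Finset.eq_univ_of_forall fun x => h (Finset.mem_univ x)))) (by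
          have := Finset.min'_mem (Finset.univ \ J) (by
            rw [Finset.sdiff_nonempty]
            intro h
            exact hJ (Finset.eq_univ_of_forall fun x => h (Finset.mem_univ x)))
          exact (Finset.mem_sdiff.1 this).2)
        rw [Fintype.card_fin] at h4
        omega
      rw [Finset.card_le_one_iff_subset_singleton] at h3
      obtain ⟨i, hi⟩ := h3
      exact ⟨i, fun j hj => Finset.mem_singleton.1 (hi hj)⟩
    have : Fintype ↥(Vr S i) := Fintype.ofFinite _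
    have h0 : classInner (fun u : ↥(UU S) => χ u) (fun u : ↥(UU S) => (psi lam J u : ℂ)) = 0 := by
      refine H53.HC.classInner_eq_zero_of_comp (Subgroup.inclusion (Vr_le_U S i)) hχc hψc ?_
      rw [classInner_apply]
      have h1 : ∀ x : ↥(Vr S i), ((fun u : ↥(UU S) => χ u) ∘ (Subgroup.inclusion (Vr_le_U S i))) x *
          conj (((fun u : ↥(UU S) => (psi lam J u : ℂ)) ∘ (Subgroup.inclusion (Vr_le_U S i))) x) = χ x := by
        intro x
        show χ x * conj ((psi lam J _ : ℂˣ) : ℂ) = _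
        rw [psi_apply, Finset.prod_eq_one, map_one, mul_one]
        intro j hj
        rw [hi j hj, hl.one i _ (Vr_le_DD S i x.2)]
        rfl
      rw [Finset.sum_congr rfl fun x _ => h1 x, hχ.cusp, mul_zero]
    rw [h0, mul_zero]

end sums

end Cfsg.Agent.H539.OF
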