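import Cfsg.Agent.H539.OF.Base

/-!
# S4884, the row `²F₄(Q)` (helper539): the coordinates of `U`

* `sys` : `H40.OC.Sys U T (DD S)`;
* `lin_triv` : linear characters of `U` are trivial on `⋂ DD S i`;
* `lin_sq` : the linear characters of the coordinates take the values `± 1`.
-/

set_option autoImplicit false
set_option linter.unusedSectionVars false

namespace Cfsg.Agent.H539.OF

open Cfsg Cfsg.Agent.SplitTwo Cfsg.Agent.SplitTwo.ZS Cfsg.Agent.TitsThree.RankTwoZ Cfsg.Agent.KFacts.TwF4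
open Cfsg.Agent.KFacts.TwF4.Full Cfsg.Agent.KFacts.TwF4.SylU Cfsg.Agent.KFacts.TwF4.Inv Cfsg.Agent.KFacts.TwF4.Arc
open Cfsg.Agent.KFacts.TwF4.AutTau Cfsg.Agent.H40.OC
open Cfsg.Agent.SplitTwo.RootSysZ Subgroup

universe u

variable {F : Type*} [Field F] {σ : F →+* F} {G : Type u} [Group G] (S : Full σ G)

theorem le_norm {A B : Subgroup G} (h : ∀ a ∈ A, ∀ b ∈ B, a * b * a⁻¹ ∈ B) : A ≤ Subgroup.normalizer (B : Set G) := by
  intro a ha
  rw [Subgroup.mem_normalizer_iff]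
  intro b
  refine ⟨fun hb => h a ha b hb, fun hb => ?_⟩
  have := h a⁻¹ (inv_mem ha) _ hb
  have e : a⁻¹ * (a * b * a⁻¹) * a⁻¹⁻¹ = b := by group
  rwa [e] at this

/-- `U` decomposed at the node `0` -/
theorem U_zero {u : G} (hu : u ∈ UU S) : ∃ s, ∃ y ∈ J S.XZ 2 8, u = S.o 0 s * y := by
  obtain ⟨r, hr, y, hy, rfl⟩ := S.zsys8.split_ll (a := 1) (b := 8) (by norm_num) (by norm_num) hu
  obtain ⟨s, rfl⟩ := (mem_X1 S).1 hr
  exact ⟨s, y, hy, rfl⟩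

/-- `U` decomposed at the node `1` -/
theorem U_one {u : G} (hu : u ∈ UU S) : ∃ p v, ∃ y ∈ J S.XZ 1 7, u = S.e 4 p v * y := by
  obtain ⟨r, hr, y, hy, rfl⟩ := S.zsys8.split_rl (a := 1) (b := 8) (by norm_num) (by norm_num) hu
  obtain ⟨p, v, rfl⟩ := (mem_X8 S).1 hr
  exact ⟨p, v, y, by norm_num at hy; exact hy, rfl⟩

theorem o0_mem (s : F) : S.o 0 s ∈ UU S := mem_J ((mem_X1 S).2 ⟨s, rfl⟩) (by norm_num) (by norm_num)
theorem o0_mem17 (s : F) : S.o 0 s ∈ J S.XZ 1 7 := mem_J ((mem_X1 S).2 ⟨s, rfl⟩) (by norm_num) (by norm_num)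
theorem e4_mem (p v : F) : S.e 4 p v ∈ UU S := mem_J ((mem_X8 S).2 ⟨p, v, rfl⟩) (by norm_num) (by norm_num)
theorem e4_mem28 (p v : F) : S.e 4 p v ∈ J S.XZ 2 8 := mem_J ((mem_X8 S).2 ⟨p, v, rfl⟩) (by norm_num) (by norm_num)

theorem conj17 {u y : G} (hu : u ∈ UU S) (hy : y ∈ J S.XZ 1 7) : u * y * u⁻¹ ∈ J S.XZ 1 7 :=
  S.zsys8.conj_J (by norm_num) (by norm_num) (by norm_num) hu hy

theorem conj28 {u y : G} (hu : u ∈ UU S) (hy : y ∈ J S.XZ 2 8) : u * y * u⁻¹ ∈ J S.XZ 2 8 :=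
  S.zsys8.conj_J (by norm_num) (by norm_num) (by norm_num) hu hy

theorem conj17' {u y : G} (hu : u ∈ UU S) (hy : y ∈ J S.XZ 1 7) : u⁻¹ * y * u ∈ J S.XZ 1 7 := by
  have := conj17 S (inv_mem hu) hy
  rwa [inv_inv] at this

theorem conj28' {u y : G} (hu : u ∈ UU S) (hy : y ∈ J S.XZ 2 8) : u⁻¹ * y * u ∈ J S.XZ 2 8 := by
  have := conj28 S (inv_mem hu) hy
  rwa [inv_inv] at this

theorem mem_DD_zero {u : G} : u ∈ DD S 0 ↔ u ∈ J S.XZ 2 8 := Iff.rfl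

theorem mem_DD_one {u : G} : u ∈ DD S 1 ↔ ∃ v, ∃ y ∈ J S.XZ 1 7, u = S.e 4 0 v * y := by
  have h : DD S 1 = S.Zc 4 ⊔ J S.XZ 1 7 := sup_comm _ _
  constructor
  · intro hu
    rw [h] at hu
    obtain ⟨_, ⟨v, rfl⟩, y, hy, rfl⟩ := mem_sup_of_norm (by
      rintro _ ⟨v, rfl⟩ y hy
      exact conj17 S (e4_mem S 0 v) hy) hu
    exact ⟨v, y, hy, rfl⟩
  · rintro ⟨v, y, hy, rfl⟩
    rw [h]
    exact mul_mem (Subgroup.mem_sup_left ⟨v, rfl⟩) (Subgroup.mem_sup_right hy)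

/-- the coordinate at the node `0` -/
theorem coord_zero {s : F} {y : G} (hy : y ∈ J S.XZ 2 8) : S.o 0 s * y ∈ DD S 0 ↔ s = 0 := by
  rw [mem_DD_zero]
  constructor
  · intro h
    have h1 : S.o 0 s ∈ J S.XZ 2 8 := by
      have := mul_mem h (inv_mem hy)
      rwa [mul_inv_cancel_right] at this
    have h2 := S.zsys8.inter 1 _ ((mem_X1 S).2 ⟨s, rfl⟩) (J_mono (by norm_num) (by norm_num) h1)
    exact S.o_eq_one h2
  · rintro rfl
    rw [S.o_zero, one_mul]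
    exact hy

/-- the coordinate at the node `1` -/
theorem coord_one {p v : F} {y : G} (hy : y ∈ J S.XZ 1 7) : S.e 4 p v * y ∈ DD S 1 ↔ p = 0 := by
  rw [mem_DD_one]
  constructor
  · rintro ⟨v', y', hy', h⟩
    have h1 : (S.e 4 0 v')⁻¹ * S.e 4 p v ∈ J S.XZ 1 7 := by
      have e : (S.e 4 0 v')⁻¹ * S.e 4 p v = y' * y⁻¹ := by
        have : S.e 4 p v = S.e 4 0 v' * y' * y⁻¹ := by rw [← h]; group
        rw [this]; group
      rw [e]
      exact mul_mem hy' (inv_mem hy)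
    have h2 : (S.e 4 0 v')⁻¹ * S.e 4 p v ∈ S.XZ 8 :=
      mul_mem (inv_mem ((mem_X8 S).2 ⟨_, _, rfl⟩)) ((mem_X8 S).2 ⟨_, _, rfl⟩)
    have h3 := S.zsys8.inter' (k := 8) h2 (J_mono (by norm_num) (by norm_num) h1)
    exact (S.injE 4 _ _ _ _ (inv_mul_eq_one.1 h3)).1.symm
  · rintro rfl
    exact ⟨v, y, hy, rfl⟩

/-- the action of the torus on the coordinates -/
theorem h_conj_o (c d : Fˣ) (s : F) : (S.h c d)⁻¹ * S.o 0 s * S.h c d = S.o 0 ((((c * d)⁻¹ : Fˣ) : F) * s) := by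
  have h := S.h_o c⁻¹ d⁻¹ 0 s
  rw [← S.h_inv, inv_inv] at h
  rw [h]
  congr 2
  show ((chE σ 0 c⁻¹ d⁻¹ * chE σ 1 c⁻¹ d⁻¹ : Fˣ) : F) = _
  rw [chE_zero, chE_one, mul_inv]

theorem h_conj_e (c d : Fˣ) (p v : F) : (S.h c d)⁻¹ * S.e 4 p v * S.h c d =
    S.e 4 ((c : F) * p) ((c : F) * σ (c : F) * v) := by
  have h := S.h_e c⁻¹ d⁻¹ 4 p v
  rw [← S.h_inv, inv_inv] at h
  rw [h, chE_four, inv_inv]

/-- **the coordinates of `U`** -/
theorem sys : Sys (UU S) S.T (DD S) where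
  tU := le_norm fun t ht u hu => S.T_conj_J ht hu
  le := DD_le S
  uD := by
    intro i
    fin_cases i
    · exact le_norm fun u hu y hy => conj28 S hu hy
    · refine le_norm fun u hu y hy => ?_
      have hy' : y ∈ DD S 1 := hy
      show u * y * u⁻¹ ∈ DD S 1
      obtain ⟨v, z, hz, rfl⟩ := (mem_DD_one S).1 hy'
      obtain ⟨p, w, x, hx, rfl⟩ := U_one S hu
      refine (mem_DD_one S).2 ⟨v, (S.e 4 0 v)⁻¹ * ((S.e 4 p w * x) * (S.e 4 0 v * z) * (S.e 4 p w * x)⁻¹), ?_, by group⟩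
      have hc : (S.e 4 0 v)⁻¹ * S.e 4 p w * S.e 4 0 v = S.e 4 p w := by
        have h1 := S.e_mul 4 p w 0 v
        have h2 := S.e_mul 4 0 v p w
        rw [map_zero, mul_zero] at h1
        rw [zero_mul] at h2
        have h3 : S.e 4 p w * S.e 4 0 v = S.e 4 0 v * S.e 4 p w := by
          rw [h1, h2]; congr 1 <;> ring
        rw [mul_assoc, h3, inv_mul_cancel_left]
      have e : (S.e 4 0 v)⁻¹ * ((S.e 4 p w * x) * (S.e 4 0 v * z) * (S.e 4 p w * x)⁻¹) =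
          S.e 4 p w * (((S.e 4 0 v)⁻¹ * x * S.e 4 0 v) * z * x⁻¹) * (S.e 4 p w)⁻¹ := by
        calc (S.e 4 0 v)⁻¹ * ((S.e 4 p w * x) * (S.e 4 0 v * z) * (S.e 4 p w * x)⁻¹) =
            ((S.e 4 0 v)⁻¹ * S.e 4 p w * S.e 4 0 v) * (((S.e 4 0 v)⁻¹ * x * S.e 4 0 v) * z * x⁻¹) * (S.e 4 p w)⁻¹ := by
              group
          _ = _ := by rw [hc]
      rw [e]
      exact conj17 S (e4_mem S p w) (mul_mem (mul_mem (conj17' S (e4_mem S 0 v) hx) hz) (inv_mem hx))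
  tD := by
    intro i
    fin_cases i
    · exact le_norm fun t ht y hy => S.T_conj_J ht hy
    · refine le_norm fun t ht y hy => ?_
      have hy' : y ∈ DD S 1 := hy
      show t * y * t⁻¹ ∈ DD S 1
      obtain ⟨v, z, hz, rfl⟩ := (mem_DD_one S).1 hy'
      obtain ⟨v', hv'⟩ := S.T_conj_Zc ht (a := 4) ⟨v, rfl⟩
      refine (mem_DD_one S).2 ⟨v', t * z * t⁻¹, S.T_conj_J ht hz, ?_⟩
      rw [hv']
      group
  co := by
    intro i a ha
    fin_cases i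
    · obtain ⟨s, y, hy, rfl⟩ := U_zero S ha
      refine ⟨S.o 0 s, o0_mem S s, ?_, fun j hj => ?_⟩
      · show (S.o 0 s)⁻¹ * (S.o 0 s * y) ∈ J S.XZ 2 8
        rw [inv_mul_cancel_left]; exact hy
      · fin_cases j
        · exact absurd rfl hj
        · exact Vr_le_DD S 1 (o0_mem17 S s)
    · obtain ⟨p, v, y, hy, rfl⟩ := U_one S ha
      refine ⟨S.e 4 p v, e4_mem S p v, ?_, fun j hj => ?_⟩
      · show (S.e 4 p v)⁻¹ * (S.e 4 p v * y) ∈ DD S 1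
        rw [inv_mul_cancel_left]; exact Vr_le_DD S 1 hy
      · fin_cases j
        · exact e4_mem28 S p v
        · exact absurd rfl hj
  ne := by
    intro i
    fin_cases i
    · refine ⟨S.o 0 1, o0_mem S 1, fun h => one_ne_zero (α := F) ?_⟩
      exact (coord_zero S (s := 1) (one_mem _)).1 (by rw [mul_one]; exact h)
    · refine ⟨S.e 4 1 0, e4_mem S 1 0, fun h => one_ne_zero (α := F) ?_⟩
      exact (coord_one S (p := 1) (v := 0) (one_mem _)).1 (by rw [mul_one]; exact h)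
  tr := by
    intro a ha b hb ha' hb'
    obtain ⟨s, y, hy, e1⟩ := U_zero S ha
    obtain ⟨p, v, z, hz, e2⟩ := U_one S ha
    obtain ⟨s', y', hy', e1'⟩ := U_zero S hb
    obtain ⟨p', v', z', hz', e2'⟩ := U_one S hb
    have hs : s ≠ 0 := fun h => ha' 0 (by rw [e1]; exact (coord_zero S hy).2 h)
    have hp : p ≠ 0 := fun h => ha' 1 (by rw [e2]; exact (coord_one S hz).2 h)
    have hs' : s' ≠ 0 := fun h => hb' 0 (by rw [e1']; exact (coord_zero S hy').2 h)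
    have hp' : p' ≠ 0 := fun h => hb' 1 (by rw [e2']; exact (coord_one S hz').2 h)
    obtain ⟨c, hc⟩ : ∃ c : Fˣ, (c : F) = p' / p := ⟨Units.mk0 (p' / p) (div_ne_zero hp' hp), rfl⟩
    obtain ⟨f, hf⟩ : ∃ f : Fˣ, (f : F) = s' / s := ⟨Units.mk0 (s' / s) (div_ne_zero hs' hs), rfl⟩
    set t := S.h c (c⁻¹ * f⁻¹) with ht
    have htT : t ∈ S.T := S.mem_T.2 ⟨_, _, rfl⟩
    have htJ : ∀ {i j : ℤ} {x : G}, x ∈ J S.XZ i j → t⁻¹ * x * t ∈ J S.XZ i j := by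
      intro i j x hx
      have := S.T_conj_J (inv_mem htT) hx
      rwa [inv_inv] at this
    refine ⟨t, htT, fun i => ?_⟩
    fin_cases i
    · show (t⁻¹ * a * t)⁻¹ * b ∈ J S.XZ 2 8
      have h1 : t⁻¹ * S.o 0 s * t = S.o 0 s' := by
        rw [ht, h_conj_o]
        congr 1
        rw [mul_inv_cancel_left, inv_inv, hf, div_mul_cancel₀ _ hs]
      have e : (t⁻¹ * a * t)⁻¹ * b = (t⁻¹ * y * t)⁻¹ * y' := by
        rw [e1, e1']
        calc (t⁻¹ * (S.o 0 s * y) * t)⁻¹ * (S.o 0 s' * y') =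
            (t⁻¹ * y * t)⁻¹ * ((t⁻¹ * S.o 0 s * t)⁻¹ * S.o 0 s') * y' := by group
          _ = _ := by rw [h1]; group
      rw [e]
      exact mul_mem (inv_mem (htJ hy)) hy'
    · show (t⁻¹ * a * t)⁻¹ * b ∈ DD S 1
      have h1 : t⁻¹ * S.e 4 p v * t = S.e 4 p' ((c : F) * σ (c : F) * v) := by
        rw [ht, h_conj_e]
        congr 1
        rw [hc, div_mul_cancel₀ _ hp]
      have e : (t⁻¹ * a * t)⁻¹ * b = (t⁻¹ * z * t)⁻¹ * ((S.e 4 p' ((c : F) * σ (c : F) * v))⁻¹ * S.e 4 p' v') * z' := by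
        rw [e2, e2']
        calc (t⁻¹ * (S.e 4 p v * z) * t)⁻¹ * (S.e 4 p' v' * z') =
            (t⁻¹ * z * t)⁻¹ * ((t⁻¹ * S.e 4 p v * t)⁻¹ * S.e 4 p' v') * z' := by group
          _ = _ := by rw [h1]
      rw [e]
      refine mul_mem (mul_mem (Vr_le_DD S 1 (inv_mem (htJ hz))) ?_) (Vr_le_DD S 1 hz')
      rw [e_inv, S.e_mul, char2 S]
      exact (mem_DD_one S).2 ⟨_, 1, one_mem _, (mul_one _).symm⟩

end Cfsg.Agent.H539.OF
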