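import Cfsg.Agent.H539.OF.FOne

/-!
# S4884, the row `²F₄(Q)` (helper539): the virtual character `Xi`

* `mS S χ` : the mean over the regular elements of `U`; `Xi S lam = Ind_U (∏ (1 - lam i))`;
* `classInner_Xi` : `[χ, Xi] = mS χ`; `Xi_norm` : `[Xi, Xi] = |F|^2`;
* `mS_RB` : `mS (Ind_B l) = 1`; `mS_RP` : `mS (Ind_{P_i} μ) = - [μ_U, lam i]` for cuspidal `μ`;
* `mS_cusp` : `mS χ = [χ_U, ψ]` for cuspidal `χ`.
-/

set_option autoImplicit false
set_option linter.unusedSectionVars false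

open scoped ComplexConjugate

namespace Cfsg.Agent.H539.OF

open Cfsg Cfsg.Agent.SplitTwo Cfsg.Agent.SplitTwo.ZS Cfsg.Agent.TitsThree.RankTwoZ Cfsg.Agent.KFacts.TwF4
open Cfsg.Agent.KFacts.TwF4.Full Cfsg.Agent.KFacts.TwF4.SylU Cfsg.Agent.KFacts.TwF4.Inv Cfsg.Agent.KFacts.TwF4.Arc
open Cfsg.Agent.KFacts.TwF4.AutTau Cfsg.Agent.H40.OC Cfsg.Agent.OddOrderCharacters.Clifford
open Cfsg.Agent.Characters
open Cfsg.Agent.SplitTwo.RootSysZ Subgroup

universe u

variable {F : Type*} [Field F] {σ : F →+* F} {G : Type u} [Group G] (S : Full σ G)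

/-- the mean over the regular elements of `U` -/
noncomputable def mS [Finite G] (χ : G → ℂ) : ℂ :=
  letI : Fintype ↥(UU S) := Fintype.ofFinite _
  mr (UU S) (DD S) χ

theorem mS_eq [Finite G] [Fintype ↥(UU S)] (χ : G → ℂ) : mS S χ = mr (UU S) (DD S) χ := by
  unfold mS
  congr
  exact Subsingleton.elim _ _

theorem mem_Reg_iff [Fintype ↥(UU S)] {u : ↥(UU S)} : u ∈ Sys.Reg (UU S) (DD S) ↔ IsReg S (u : G) := by
  rw [Sys.mem_Reg]
  exact ⟨fun h => ⟨u.2, h⟩, fun h => h.2⟩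

/-- the virtual character of `U` -/
noncomputable def xi (lam : Fin 2 → (↥(UU S) →* ℂˣ)) (u : ↥(UU S)) : ℂ := ∏ i, (1 - (lam i u : ℂ))

theorem xi_conj (lam : Fin 2 → (↥(UU S) →* ℂˣ)) (u v : ↥(UU S)) : xi S lam (v⁻¹ * u * v) = xi S lam u := by
  unfold xi
  refine Finset.prod_congr rfl fun i _ => ?_
  rw [map_mul, map_mul, map_inv, mul_comm, mul_inv_cancel_left]

/-- `Xi` -/
noncomputable def Xi [Fintype G] (lam : Fin 2 → (↥(UU S) →* ℂˣ)) : G → ℂ := indFun (UU S) (xi S lam)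

/-- the Gelfand-Graev character -/
noncomputable def Gam [Fintype G] (lam : Fin 2 → (↥(UU S) →* ℂˣ)) : G → ℂ :=
  indFun (UU S) fun u => (psi lam Finset.univ u : ℂ)

theorem isClass_Xi [Fintype G] (lam : Fin 2 → (↥(UU S) →* ℂˣ)) : IsClassFunction G (Xi S lam) :=
  isClassFunction_indFun _ _

theorem conj_T_of_class {χ : G → ℂ} (hχ : IsClassFunction G χ) (t u : G) : χ (t⁻¹ * u * t) = χ u := by
  have := hχ u t⁻¹
  rwa [inv_inv] at this

/-- **the scalar product with `Xi`** -/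
theorem classInner_Xi [Fintype G] {lam : Fin 2 → (↥(UU S) →* ℂˣ)} (hl : Lam (UU S) (DD S) lam)
    {χ : G → ℂ} (hχ : IsClassFunction G χ) : classInner χ (Xi S lam) = mS S χ := by
  classical
  have : Fintype ↥(UU S) := Fintype.ofFinite _
  have : Fintype ↥S.T := Fintype.ofFinite _
  have H := sys S
  have h1 := classInner_indFun (UU S) (xi S lam) χ hχ
  have h2 := reg_sum_lam H hl (φ := χ) fun t _ u _ => conj_T_of_class hχ t u
  rw [← Core.classInner_conj_symm]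
  unfold Xi
  rw [h1, Core.classInner_conj_symm, classInner_apply, mS_eq S, Nat.card_eq_fintype_card]
  rw [← mul_right_inj' (card_ne (U := UU S)), ← h2, mul_inv_cancel_left₀ card_ne]
  refine Finset.sum_congr rfl fun u _ => ?_
  unfold xi
  rw [map_prod]
  congr 1
  refine Finset.prod_congr rfl fun i _ => ?_
  rw [_root_.map_sub, map_one]

/-- a sum over `B` -/
theorem sum_B [Finite F] [Fintype G] [Fintype ↥S.T] [Fintype ↥(UU S)] [Fintype ↥(BB S)] (f : G → ℂ) :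
    ∑ b : ↥(BB S), f b = ∑ t : ↥S.T, ∑ v : ↥(UU S), f (t * v) := by
  rw [← Finset.sum_product']
  symm
  refine Finset.sum_bij (fun (x : ↥S.T × ↥(UU S)) _ => (⟨(x.1 : G) * x.2, mul_mem (T_le_BB S x.1.2) (U_le_BB S x.2.2)⟩ :
    ↥(BB S))) (fun _ _ => Finset.mem_univ _) ?_ ?_ (fun _ _ => rfl)
  · rintro ⟨t, v⟩ _ ⟨t', v'⟩ _ he
    have h1 : (t : G) * v = t' * v' := congrArg Subtype.val he
    have h2 : (t' : G)⁻¹ * t = v' * (v : G)⁻¹ := by
      have : (t : G) = t' * v' * (v : G)⁻¹ := by rw [← h1]; group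
      rw [this]; group
    have h3 := S.U_inf_T (mul_mem (inv_mem t'.2) t.2) (by rw [h2]; exact mul_mem v'.2 (inv_mem v.2))
    have h4 : (t' : G) = t := inv_mul_eq_one.1 h3
    have h5 : (v' : G) = v := by
      rw [h3] at h2
      exact (mul_inv_eq_one.1 h2.symm)
    exact Prod.ext (Subtype.ext h4.symm) (Subtype.ext h5.symm)
  · rintro ⟨b, hb⟩ _
    obtain ⟨t, ht, v, hv, rfl⟩ := mem_BB' S hb
    exact ⟨(⟨t, ht⟩, ⟨v, hv⟩), Finset.mem_univ _, rfl⟩

section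

variable [Finite F] (hF : ∃ c : Fˣ, c ≠ 1) (hR : S.R.p = 2)

include hF in
/-- **the values of `Xi`** -/
theorem Xi_apply [Fintype G] [Fintype ↥S.T] [Fintype ↥(UU S)]
    {lam : Fin 2 → (↥(UU S) →* ℂˣ)} (hl : Lam (UU S) (DD S) lam) {u : G} (hu : IsReg S u) :
    Xi S lam u = (Fintype.card ↥S.T : ℂ) * (Fintype.card ↥(UU S) / (Sys.Reg (UU S) (DD S)).card) := by
  classical
  have huU : u ∈ UU S := hu.1
  have H := sys S
  have : Fintype ↥(BB S) := Fintype.ofFinite _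
  unfold Xi
  rw [Cfsg.Agent.Characters.Core.indFun_apply]
  rw [sum_eq_sum_subgroup (BB S) (fun x => extendByZero (UU S) (xi S lam) (x⁻¹ * u * x)) (by
    intro x hx
    exact ext_apply_not_mem _ _ _ fun h1 => hx (F1 S hF hu.1 (hu.zero) (hu.one) h1))]
  rw [sum_B S (fun x => extendByZero (UU S) (xi S lam) (x⁻¹ * u * x))]
  have h1 : ∀ (t : ↥S.T) (v : ↥(UU S)), extendByZero (UU S) (xi S lam) (((t : G) * v)⁻¹ * u * (t * v)) =
      extendByZero (UU S) (xi S lam) ((t : G)⁻¹ * u * t) := by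
    intro t v
    have h2 : (t : G)⁻¹ * u * t ∈ UU S := BB_norm' S (T_le_BB S t.2) huU
    have e : ((t : G) * v)⁻¹ * u * (t * v) = (v : G)⁻¹ * ((t : G)⁻¹ * u * t) * v := by group
    rw [e, ext_apply_mem _ _ _ h2, ext_apply_mem _ _ _ (mul_mem (mul_mem (inv_mem v.2) h2) v.2)]
    exact xi_conj S lam ⟨_, h2⟩ v
  have h2 : ∀ t : ↥S.T, ∑ v : ↥(UU S), extendByZero (UU S) (xi S lam) (((t : G) * v)⁻¹ * u * (t * v)) =
      (Fintype.card ↥(UU S) : ℂ) * extendByZero (UU S) (xi S lam) ((t : G)⁻¹ * u * t) := by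
    intro t
    rw [Finset.sum_congr rfl fun v _ => h1 t v, Finset.sum_const, Finset.card_univ, nsmul_eq_mul]
  rw [Finset.sum_congr rfl fun t _ => h2 t, ← Finset.mul_sum, Nat.card_eq_fintype_card, inv_mul_cancel_left₀ card_ne]
  have h3 := H.reg_avg (F := extendByZero (UU S) (xi S lam))
    (ext_mul fun u d hd => Finset.prod_congr rfl fun i _ => by rw [hl.mul (hd i)]) (by
      intro v hv
      rw [ext_apply_coe]
      rw [Sys.mem_Reg] at hv
      push Not at hv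
      obtain ⟨i, hi⟩ := hv
      refine Finset.prod_eq_zero (Finset.mem_univ i) ?_
      rw [hl.one i v hi]
      simp) (u := ⟨u, huU⟩) ((mem_Reg_iff S).2 hu)
  rw [h3]
  congr 2
  simp only [ext_apply_coe]
  unfold xi
  rw [H.sum_prod' (fun i (u : ↥(UU S)) => 1 - (lam i u : ℂ)) (by
    intro i u d hd
    simp only [hl.mul hd])]
  have h2 : ∀ i, (∑ u : ↥(UU S), (1 - (lam i u : ℂ))) / (Fintype.card ↥(UU S) : ℂ) = 1 := by
    intro i
    rw [Finset.sum_sub_distrib, sum_lam (hl.ne i), sub_zero, Finset.sum_const, Finset.card_univ, nsmul_eq_mul,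
      mul_one, div_self card_ne]
  rw [Finset.prod_congr rfl fun i _ => h2 i, Finset.prod_const_one, mul_one]

/-- `Xi` vanishes off the regular elements -/
theorem Xi_eq_zero [Fintype G] {lam : Fin 2 → (↥(UU S) →* ℂˣ)} (hl : Lam (UU S) (DD S) lam) {g : G}
    (hg : ∀ x, ¬ IsReg S (x⁻¹ * g * x)) : Xi S lam g = 0 := by
  classical
  unfold Xi
  rw [Cfsg.Agent.Characters.Core.indFun_apply, Finset.sum_eq_zero, mul_zero]
  intro x _
  by_cases h1 : x⁻¹ * g * x ∈ UU S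
  · rw [ext_apply_mem _ _ _ h1]
    have h2 := hg x
    unfold IsReg at h2
    push Not at h2
    obtain ⟨i, hi⟩ := h2 h1
    refine Finset.prod_eq_zero (Finset.mem_univ i) ?_
    rw [hl.one i _ hi]
    simp
  · exact ext_apply_not_mem _ _ _ h1

/-- the order of the torus -/
theorem card_T : Nat.card ↥S.T = (Nat.card F - 1) ^ 2 := by
  have e : Nat.card ↥S.T = Nat.card (Fˣ × Fˣ) := by
    refine Nat.card_congr (Equiv.ofBijective (fun p : Fˣ × Fˣ => (⟨S.h p.1 p.2, S.mem_T.2 ⟨_, _, rfl⟩⟩ : ↥S.T)) ⟨?_, ?_⟩).symm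
    · rintro ⟨c, d⟩ ⟨c', d'⟩ h
      obtain ⟨h1, h2⟩ := S.h_inj _ _ _ _ (congrArg Subtype.val h)
      exact Prod.ext h1 h2
    · rintro ⟨t, ht⟩
      obtain ⟨c, d, h⟩ := S.mem_T.1 ht
      exact ⟨(c, d), Subtype.ext h⟩
  rw [e, Nat.card_prod, Nat.card_units, pow_two]

/-- the index of the kernels of the coordinates -/
theorem qi_eq [Finite G] (i : Fin 2) : qi (UU S) (DD S) i = Nat.card F := by
  unfold qi
  rw [Subgroup.relIndex, Subgroup.index]
  symm
  fin_cases i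
  · refine Nat.card_congr (Equiv.ofBijective (fun s : F => (QuotientGroup.mk (⟨S.o 0 s, o0_mem S s⟩ : ↥(UU S)) :
      ↥(UU S) ⧸ (DD S 0).subgroupOf (UU S))) ⟨?_, ?_⟩)
    · intro s s' h
      have h1 : (S.o 0 s)⁻¹ * S.o 0 s' ∈ DD S 0 := Subgroup.mem_subgroupOf.1 (QuotientGroup.eq.1 h)
      rw [o_inv, S.o_add] at h1
      have h2 := (coord_zero S (s := s + s') (one_mem _)).1 (by rw [mul_one]; exact h1)
      exact add_left_cancel ((char2 S s).trans h2.symm)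
    · intro x
      obtain ⟨⟨u, hu⟩, rfl⟩ := QuotientGroup.mk_surjective x
      obtain ⟨s, y, hy, rfl⟩ := U_zero S hu
      refine ⟨s, QuotientGroup.eq.2 (Subgroup.mem_subgroupOf.2 ?_)⟩
      show (S.o 0 s)⁻¹ * (S.o 0 s * y) ∈ DD S 0
      rw [inv_mul_cancel_left]
      exact hy
  · refine Nat.card_congr (Equiv.ofBijective (fun p : F => (QuotientGroup.mk (⟨S.e 4 p 0, e4_mem S p 0⟩ : ↥(UU S)) :
      ↥(UU S) ⧸ (DD S 1).subgroupOf (UU S))) ⟨?_, ?_⟩)
    · intro p p' h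
      have h1 : (S.e 4 p 0)⁻¹ * S.e 4 p' 0 ∈ DD S 1 := Subgroup.mem_subgroupOf.1 (QuotientGroup.eq.1 h)
      rw [e_inv, S.e_mul] at h1
      have h2 := (coord_one S (p := p + p') (one_mem _)).1 (by rw [mul_one]; exact h1)
      exact add_left_cancel ((char2 S p).trans h2.symm)
    · intro x
      obtain ⟨⟨u, hu⟩, rfl⟩ := QuotientGroup.mk_surjective x
      obtain ⟨p, v, y, hy, rfl⟩ := U_one S hu
      refine ⟨p, QuotientGroup.eq.2 (Subgroup.mem_subgroupOf.2 ?_)⟩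
      show (S.e 4 p 0)⁻¹ * (S.e 4 p v * y) ∈ DD S 1
      rw [← mul_assoc, e_inv, S.e_mul, char2 S]
      exact (mem_DD_one S).2 ⟨_, y, hy, rfl⟩

/-- `|T| |U| / |Reg| = |F|^2` -/
theorem kap_eq [Finite G] [Fintype ↥S.T] [Fintype ↥(UU S)] :
    (Fintype.card ↥S.T : ℂ) * (Fintype.card ↥(UU S) / (Sys.Reg (UU S) (DD S)).card) = (Nat.card F : ℂ) ^ 2 := by
  have h1 := card_Reg (sys S)
  have hU : (Nat.card ↥(UU S) : ℂ) ≠ 0 := card_ne_zero'
  have hF1 : 1 < Nat.card F := Finite.one_lt_card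
  have hF0 : (Nat.card F : ℂ) ≠ 0 := Nat.cast_ne_zero.2 (by omega)
  have hF2 : (Nat.card F : ℂ) - 1 ≠ 0 := by
    rw [sub_ne_zero]
    intro h
    have : Nat.card F = 1 := by exact_mod_cast h
    omega
  have h2 : (Fintype.card ↥S.T : ℂ) = ((Nat.card F : ℂ) - 1) ^ 2 := by
    rw [← Nat.card_eq_fintype_card, card_T S, Nat.cast_pow, Nat.cast_sub hF1.le, Nat.cast_one]
  have e : (Fintype.card ↥(UU S) : ℂ) = Nat.card ↥(UU S) := by rw [Nat.card_eq_fintype_card]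
  rw [h2, h1, Fin.prod_univ_two, qi_eq S 0, qi_eq S 1, e]
  have h3 : (1 - ((Nat.card F : ℕ) : ℂ)⁻¹) ≠ 0 := by
    rw [sub_ne_zero]
    intro h
    apply hF2
    rw [sub_eq_zero]
    exact (inv_eq_one.1 h.symm)
  field_simp

include hF in
theorem Xi_reg [Fintype G] {lam : Fin 2 → (↥(UU S) →* ℂˣ)} (hl : Lam (UU S) (DD S) lam) {u : G} (hu : IsReg S u) :
    Xi S lam u = (Nat.card F : ℂ) ^ 2 := by
  classical
  have : Fintype ↥(UU S) := Fintype.ofFinite _
  have : Fintype ↥S.T := Fintype.ofFinite _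
  rw [Xi_apply S hF hl hu, kap_eq S]

theorem mS_const [Finite G] {χ : G → ℂ} {c : ℂ} (h : ∀ u, IsReg S u → χ u = c) : mS S χ = c := by
  classical
  have : Fintype ↥(UU S) := Fintype.ofFinite _
  have hs : ∑ u ∈ Sys.Reg (UU S) (DD S), χ u = ∑ u ∈ Sys.Reg (UU S) (DD S), c :=
    Finset.sum_congr rfl fun u hu => h u ((mem_Reg_iff S).1 hu)
  rw [mS_eq S, mr_def, hs, Finset.sum_const, nsmul_eq_mul, mul_div_cancel_left₀]
  exact_mod_cast (sys S).reg_nonempty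

include hF in
/-- **the norm of `Xi`** -/
theorem Xi_norm [Fintype G] {lam : Fin 2 → (↥(UU S) →* ℂˣ)} (hl : Lam (UU S) (DD S) lam) :
    classInner (Xi S lam) (Xi S lam) = (Nat.card F : ℂ) ^ 2 := by
  rw [classInner_Xi S hl (isClass_Xi S lam)]
  exact mS_const S fun u hu => Xi_reg S hF hl hu

include hF hR in
/-- `mS (Ind_B l) = 1` -/
theorem mS_RB [Fintype G] {l : ↥(BB S) →* ℂˣ} (hl : Ps S l) : mS S (RB S l) = 1 := by
  refine mS_const S fun u hu => ?_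
  unfold RB
  have hc : IsClassFunction ↥(BB S) fun b => (l b : ℂ) := by
    intro g h
    show ((l (h * g * h⁻¹) : ℂˣ) : ℂ) = _
    rw [map_mul, map_mul, map_inv, mul_comm (l h), mul_inv_cancel_right]
  rw [ind_reg (BB S) hc (U_le_BB S hu.1) fun g hg => F1_BB S hF hR hu hg]
  show ((l ⟨u, _⟩ : ℂˣ) : ℂ) = 1
  rw [hl.triv _ hu.1]
  rfl

end

end Cfsg.Agent.H539.OF
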